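import Groth.Agent.PruferLib.SheafFP
import Groth.Agent.Coherent.ProjSpaceCoh
import Groth.Agent.Coherent.ProjFormula
import Groth.Agent.TwistLib.TwistInv
import Groth.Agent.PicLib.FiniteSetTriv
import Groth.Agent.EulerLib.Twist
import Groth.Agent.S3557

/-!
# Serre vanishing on projective space over a semilocal Prüfer domain
-/

set_option autoImplicit false
set_option backward.isDefEq.respectTransparency.types false

universe u

open CategoryTheory CategoryTheory.Limits AlgebraicGeometry TopologicalSpace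
open Groth.Agent.Coherent Groth.Agent.PicLib Groth.Agent.AmpleLib
open Groth.Agent.PruferLib.SheafFP

namespace Groth.Agent.PruferLib.ProjVanish

attribute [local instance] hasFiniteBiproducts

variable {R : Type u} [CommRing R] [IsDomain R] {n : ℕ}

theorem isIntegral_projSpace : AlgebraicGeometry.IsIntegral (CohB1.ProjSpace n R) := by
  refine (Groth.Agent.S3557.result (CohB1.polyGrading n R) fun f _ hf => hf.eq_zero).2
    ⟨⟨MvPolynomial.X 0, ?_, MvPolynomial.X_ne_zero 0⟩, fun f _ g _ h => mul_eq_zero.1 h⟩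
  exact HomogeneousIdeal.mem_irrelevant_of_mem (CohB1.polyGrading n R) one_pos
    (ProjLib.X_mem_polyGrading n R 0)

theorem noTorsion_projSpace : NoTorsion (CohB1.ProjSpace.toSpec n R) := by
  haveI := isIntegral_projSpace (R := R) (n := n)
  haveI := ProjLib.toSpec_surjective n R
  haveI := isProper_projSpace_toSpec n R
  exact noTorsion_of_integral _

theorem hcov (x : ProjectiveSpectrum (CohB1.polyGrading n R)) :
    ∃ f ∈ CohB1.polyGrading n R 1, f ∉ x.asHomogeneousIdeal.toIdeal := by
  obtain ⟨i, hi⟩ := Opens.mem_iSup.1 ((ProjLib.iSup_basicOpen_X n R).ge (Set.mem_univ x))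
  exact ⟨_, ProjLib.X_mem_polyGrading n R i, hi⟩

theorem isInvertible_twist (d : ℤ) : PicF.IsInvertible (Twist.twistProjSpace n R d) :=
  TwistLib.isInvertible_twist hcov d

theorem nonempty_twist_tensorPow (d : ℤ) (k : ℕ) :
    Nonempty (CohB1.tensorMod (Twist.twistProjSpace n R d) (CohB1.tensorPow (Twist.twistProjSpace n R 1) k) ≅
      Twist.twistProjSpace n R (d + k)) := by
  obtain ⟨e⟩ := TwistLib.nonempty_twist_pow_iso (𝒜 := CohB1.polyGrading n R) hcov k
  obtain ⟨e'⟩ := TwistLib.nonempty_tensor_twist_iso (𝒜 := CohB1.polyGrading n R) hcov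
    (show d + (k : ℤ) = d + k from rfl)
  exact ⟨tensorIso (Iso.refl _) e.symm ≪≫ e'⟩

omit [IsDomain R] in
theorem hom_app_sum {X : Scheme.{u}} {M N : X.Modules} {κ : Type} (s : Finset κ) (F : κ → (M ⟶ N))
    (U : X.Opens) (x : Γ(M, U)) : (∑ i ∈ s, F i).app U x = ∑ i ∈ s, (F i).app U x := by
  classical
  induction s using Finset.induction with
  | empty => rw [Finset.sum_empty, Finset.sum_empty]; rfl
  | insert a s ha ih =>
    rw [Finset.sum_insert ha, Finset.sum_insert ha, ← ih]
    rfl

omit [IsDomain R] in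
theorem tmul_sum_left {X : Scheme.{u}} {M N : X.Modules} {κ : Type} (s : Finset κ) {U : X.Opens}
    (a : κ → Γ(M, U)) (b : Γ(N, U)) : tmul (∑ i ∈ s, a i) b = ∑ i ∈ s, tmul (a i) b := by
  classical
  induction s using Finset.induction with
  | empty => rw [Finset.sum_empty, Finset.sum_empty, tmul_zero_left]
  | insert a s ha ih => rw [Finset.sum_insert ha, Finset.sum_insert ha, tmul_add_left, ih]

omit [IsDomain R] in
/-- Vanishing passes to sums. -/
theorem subsingleton_twist_biproduct {A : Type u} [CommRing A] {X : Scheme.{u}} (φ : A →+* Γ(X, ⊤))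
    {κ : Type} [Fintype κ] (F : κ → X.Modules) (L : X.Modules) (q : ℕ)
    (h : ∀ i, Subsingleton (HA φ (CohB1.tensorMod (F i) L) (⊤ : X.Opens) q)) :
    Subsingleton (HA φ (CohB1.tensorMod (⨁ F) L) (⊤ : X.Opens) q) := by
  classical
  refine ⟨fun x y => ?_⟩
  suffices ∀ x : HA φ (CohB1.tensorMod (⨁ F) L) (⊤ : X.Opens) q, x = 0 by rw [this x, this y]
  intro x
  let p : ∀ i, CohB1.tensorMod (⨁ F) L ⟶ CohB1.tensorMod (F i) L := fun i =>
    tensorMap (biproduct.π F i) (𝟙 L)
  let s : ∀ i, CohB1.tensorMod (F i) L ⟶ CohB1.tensorMod (⨁ F) L := fun i =>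
    tensorMap (biproduct.ι F i) (𝟙 L)
  have htot : ∑ i, p i ≫ s i = 𝟙 _ := by
    refine AmpleLib.hom_ext fun U a b => ?_
    rw [hom_app_sum]
    simp only [Scheme.Modules.Hom.comp_app, ConcreteCategory.comp_apply, p, s, tensorMap_tmul]
    rw [← tmul_sum_left Finset.univ (fun i => (biproduct.ι F i).app U ((biproduct.π F i).app U a)),
      biproduct_sections_total]
    rfl
  have key : ∀ t : Finset κ, postHM (∑ i ∈ t, p i ≫ s i) q (⊤ : X.Opens) x = 0 := fun t => by
    induction t using Finset.induction with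
    | empty => rw [Finset.sum_empty]; exact postHM_zero q _ x
    | insert a t ha ih =>
      rw [Finset.sum_insert ha]
      refine (postHM_add _ _ q _ x).trans ?_
      have h0 : postHM (p a ≫ s a) q (⊤ : X.Opens) x = 0 := by
        refine (postHM_comp (p a) (s a) q _ x).trans ?_
        have : postA φ (p a) ⊤ q x = 0 := (h a).elim _ _
        exact (congrArg (postA φ (s a) ⊤ q) this).trans (map_zero _)
      rw [h0, ih]
      exact add_zero _
  have hx := key Finset.univ
  rw [htot] at hx
  exact (postHM_id _ q _ x).symm.trans hx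

variable [Finite (MaximalSpectrum R)]
  (hR : ∀ (p : Ideal R) [p.IsPrime], ValuationRing (Localization.AtPrime p))
include hR

/-- Serre vanishing for modules with finitely presented sections. -/
theorem exists_vanish (φ : R →+* Γ(CohB1.ProjSpace n R, ⊤)) :
    ∀ (k q : ℕ), 1 ≤ q → n < q + k → ∀ M : (CohB1.ProjSpace n R).Modules, FPSec M →
      ∃ N : ℕ, ∀ m : ℕ, N ≤ m → Subsingleton (HA φ
        (CohB1.tensorMod M (CohB1.tensorPow (Twist.twistProjSpace n R 1) m))
        (⊤ : (CohB1.ProjSpace n R).Opens) q) := by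
  haveI := isProper_projSpace_toSpec n R
  intro k
  induction k with
  | zero =>
    intro q hq hnq M hM
    refine ⟨0, fun m _ => ?_⟩
    have := hM.qcoh
    have : Coh.IsQCoh (CohB1.tensorMod M (CohB1.tensorPow (Twist.twistProjSpace n R 1) m)) :=
      isQCoh_tensor_invertible M (isInvertible_tensorPow (isInvertible_twist 1) m)
    have := subsingleton_HH_projSpace_of_lt
      (CohB1.tensorMod M (CohB1.tensorPow (Twist.twistProjSpace n R 1) m)) q (by omega)
    exact (HHLinEquiv _ q).toEquiv.symm.subsingleton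
  | succ k ih =>
    intro q hq hnq M hM
    have := hM.qcoh
    obtain ⟨N₀, hN₀⟩ := (projPowCover n R).exists_epi hM.isCoh
    obtain ⟨r, π, hπ⟩ := hN₀ N₀ le_rfl _ (twistGens n R N₀)
    let L₀ := Twist.twistProjSpace n R (-(N₀ : ℤ))
    have := isQCoh_twistProjSpace (n := n) (R := R) (-(N₀ : ℤ))
    have hL₀ : Coh.IsCoh L₀ := isCoh_of_gens (twistGens n R N₀)
    have htf : ∀ (U : (CohB1.ProjSpace n R).Opens), IsAffineOpen U → ∀ (a : R)
        (z : Γ((⨁ fun _ : Fin r => L₀), U)), a ≠ 0 → secHom (CohB1.ProjSpace.toSpec n R) U a • z = 0 → z = 0 := by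
      intro U hU a z ha hz
      rw [← biproduct_sections_total (fun _ : Fin r => L₀) U z]
      refine Finset.sum_eq_zero fun i _ => ?_
      have : (biproduct.π (fun _ : Fin r => L₀) i).app U z = 0 := by
        refine torsionFree_of_gens (CohB1.ProjSpace.toSpec n R) noTorsion_projSpace (fun x => ?_) U a _ ha ?_
        · obtain ⟨i, hi⟩ := Opens.mem_iSup.1 ((projPowCover n R).cover.ge (Opens.mem_top x))
          exact ⟨_, _, hi, (twistGens n R N₀).isGen i⟩
        · rw [← Scheme.Modules.Hom.app_smul, hz, map_zero]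
      rw [this, map_zero]
    have hE : FPSec (⨁ fun _ : Fin r => L₀) :=
      FPSec.of_torsionFree hR (CohB1.ProjSpace.toSpec n R) noTorsion_projSpace
        (isCoh_biproduct _ fun _ => hL₀) htf
    haveI := hπ
    have hK : FPSec (Limits.kernel π) :=
      FPSec.kernel hR (CohB1.ProjSpace.toSpec n R) noTorsion_projSpace π hE hM
    obtain ⟨N₁, hN₁⟩ := ih (q + 1) (by omega) (by omega) _ hK
    refine ⟨max N₀ N₁, fun m hm => ?_⟩
    let S : ShortComplex (CohB1.ProjSpace n R).Modules :=
      ShortComplex.mk (kernel.ι π) π (kernel.condition π)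
    have hS : S.ShortExact :=
      { exact := ShortComplex.exact_kernel π, epi_g := hπ, mono_f := inferInstance }
    let Lm := CohB1.tensorPow (Twist.twistProjSpace n R 1) m
    have hS' := EulerLib.twistSeq_shortExact (L := Lm) (isInvertible_tensorPow (isInvertible_twist 1) m) hS
    have h1 : Subsingleton (HA φ (EulerLib.twistSeq S Lm).X₁ (⊤ : (CohB1.ProjSpace n R).Opens) (q + 1)) :=
      hN₁ m ((le_max_right _ _).trans hm)
    have h2 : Subsingleton (HA φ (EulerLib.twistSeq S Lm).X₂ (⊤ : (CohB1.ProjSpace n R).Opens) q) := by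
      refine subsingleton_twist_biproduct φ (fun _ : Fin r => L₀) Lm q fun _ => ?_
      obtain ⟨e⟩ := nonempty_twist_tensorPow (R := R) (n := n) (-(N₀ : ℤ)) m
      have h0 := subsingleton_HH_twist (n := n) (R := R) (d := -(N₀ : ℤ) + m) q (by omega) (by
        have : N₀ ≤ m := (le_max_left _ _).trans hm
        omega)
      have h0' : Subsingleton (HA φ (Twist.twistProjSpace n R (-(N₀ : ℤ) + m))
          (⊤ : (CohB1.ProjSpace n R).Opens) q) := (HHLinEquiv _ q).toEquiv.symm.subsingleton
      exact (isoA φ e ⊤ q).toEquiv.subsingleton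
    refine ⟨fun x y => ?_⟩
    suffices ∀ x : HA φ (EulerLib.twistSeq S Lm).X₃ (⊤ : (CohB1.ProjSpace n R).Opens) q, x = 0 from
      (this x).trans (this y).symm
    intro x
    obtain ⟨z, hz⟩ := (exact_postA_deltaA φ hS' ⊤ q x).1 (h1.elim _ _)
    exact hz.symm.trans ((congrArg _ (h2.elim z 0)).trans (map_zero _))

end Groth.Agent.PruferLib.ProjVanish
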