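import Groth.Agent.HenselLib.ValRingWEt
import Groth.Agent.HenselLib.WEtNoeth
import Mathlib.RingTheory.Unramified.LocalStructure
import Mathlib.RingTheory.Ideal.GoingDown
import Mathlib.RingTheory.Flat.Localization
import Mathlib.RingTheory.Localization.BaseChange

/-!
# Smooth algebras over valuation rings at generic points of the special fibre
-/

set_option autoImplicit false

universe u

open TensorProduct

namespace Groth.Agent.PruferLib.SmoothGeneric

open MvPolynomial

variable (V : Type u) [CommRing V] [IsDomain V] [ValuationRing V] (n : ℕ)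

/-- The prime of polynomials with all coefficients in the maximal ideal. -/
noncomputable def gaussPrime : Ideal (MvPolynomial (Fin n) V) :=
  (IsLocalRing.maximalIdeal V).map C

instance : (gaussPrime V n).IsPrime := by
  have e : gaussPrime V n = RingHom.ker (MvPolynomial.map (σ := Fin n) (IsLocalRing.residue V)) := by
    rw [MvPolynomial.ker_map, IsLocalRing.ker_residue]
    rfl
  rw [e]
  exact RingHom.ker_isPrime _

theorem exists_content (F : MvPolynomial (Fin n) V) (hF : F ≠ 0) :
    ∃ (c : V) (G : MvPolynomial (Fin n) V), G ∉ gaussPrime V n ∧ F = C c * G := by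
  classical
  let J : Ideal V := Ideal.span (F.coeff '' (F.support : Set (Fin n →₀ ℕ)))
  have hfg : J.FG := Submodule.fg_span (F.support.finite_toSet.image _)
  obtain ⟨c, hc⟩ : ∃ c, J = Ideal.span {c} := (IsBezout.isPrincipal_of_FG J hfg).principal
  have hdvd : ∀ m, c ∣ F.coeff m := by
    intro m
    by_cases hm : m ∈ F.support
    · exact Ideal.mem_span_singleton.1 (hc ▸ Ideal.subset_span ⟨m, hm, rfl⟩)
    · rw [MvPolynomial.notMem_support_iff.1 hm]
      exact dvd_zero c
  choose g hg using hdvd
  have hc0 : c ≠ 0 := by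
    rintro rfl
    exact hF (MvPolynomial.ext _ _ fun m => by rw [hg m, zero_mul, coeff_zero])
  let G : MvPolynomial (Fin n) V := ∑ m ∈ F.support, monomial m (g m)
  have hG : ∀ m, G.coeff m = if m ∈ F.support then g m else 0 := by
    intro m
    simp only [G, coeff_sum, coeff_monomial, Finset.sum_ite_eq']
  refine ⟨c, G, fun h => ?_, MvPolynomial.ext _ _ fun m => ?_⟩
  · have hle : J ≤ IsLocalRing.maximalIdeal V * Ideal.span {c} := by
      rw [Ideal.span_le]
      rintro _ ⟨m, hm, rfl⟩
      refine Ideal.mem_mul_span_singleton.2 ⟨g m, ?_, (mul_comm _ _).trans (hg m).symm⟩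
      have := MvPolynomial.mem_map_C_iff.1 h m
      rwa [hG, if_pos (Finset.mem_coe.1 hm)] at this
    obtain ⟨z, hz, hzc⟩ := Ideal.mem_mul_span_singleton.1
      (hle (hc.ge (Ideal.mem_span_singleton_self c)))
    have : z = 1 := mul_right_cancel₀ hc0 (hzc.trans (one_mul c).symm)
    exact (IsLocalRing.maximalIdeal.isMaximal V).ne_top ((Ideal.eq_top_iff_one _).2 (this ▸ hz))
  · rw [coeff_C_mul, hG]
    split_ifs with hm
    · exact hg m
    · rw [MvPolynomial.notMem_support_iff.1 hm, mul_zero]

/-- The localisation of polynomials at the Gauss prime. -/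
abbrev Gauss : Type u := Localization.AtPrime (gaussPrime V n)

theorem exists_eq_mul (b : Gauss V n) (hb : b ≠ 0) :
    ∃ (c : V) (u : (Gauss V n)ˣ), b = algebraMap V (Gauss V n) c * u := by
  obtain ⟨F, s, rfl⟩ := IsLocalization.exists_mk'_eq (gaussPrime V n).primeCompl b
  have hF : F ≠ 0 := fun h => hb (by rw [h, IsLocalization.mk'_zero])
  obtain ⟨c, G, hG, rfl⟩ := exists_content V n F hF
  refine ⟨c, ((IsLocalization.AtPrime.isUnit_mk'_iff (Gauss V n) (gaussPrime V n) G s).2 hG).unit, ?_⟩
  rw [IsUnit.unit_spec, IsScalarTower.algebraMap_apply V (MvPolynomial (Fin n) V) (Gauss V n),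
    MvPolynomial.algebraMap_eq, IsLocalization.mul_mk'_eq_mk'_of_mul]

theorem valuationRing_gauss : ValuationRing (Gauss V n) := by
  refine { cond' := fun a b => ?_ }
  by_cases ha : a = 0
  · exact ⟨0, Or.inr (by simp [ha])⟩
  by_cases hb : b = 0
  · exact ⟨0, Or.inl (by simp [hb])⟩
  obtain ⟨c, v, rfl⟩ := exists_eq_mul V n a ha
  obtain ⟨d, w, rfl⟩ := exists_eq_mul V n b hb
  obtain ⟨e, he | he⟩ := ValuationRing.cond c d
  · refine ⟨algebraMap V _ e * (↑v⁻¹ * ↑w), Or.inl ?_⟩
    rw [← he, map_mul]
    linear_combination (algebraMap V (Gauss V n) c * algebraMap V (Gauss V n) e * ↑w) * v.mul_inv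
  · refine ⟨algebraMap V _ e * (↑w⁻¹ * ↑v), Or.inr ?_⟩
    rw [← he, map_mul]
    linear_combination (algebraMap V (Gauss V n) d * algebraMap V (Gauss V n) e * ↑v) * w.mul_inv

theorem weaklyEtale_of_localization_base {P B C : Type u} [CommRing P] [CommRing B] [CommRing C]
    (M : Submonoid P) [Algebra P B] [IsLocalization M B] [Algebra P C] [Algebra B C]
    [IsScalarTower P B C] [Algebra.WeaklyEtale P C] : Algebra.WeaklyEtale B C where
  flat := (Module.flat_iff_of_isLocalization B M C).2 inferInstance
  flat_lmul' := by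
    let e : C ⊗[B] C ≃ₐ[B] C ⊗[P] C := IsLocalization.algebraTensorEquiv M B C C
    have h : (Algebra.TensorProduct.lmul' B (S := C)).toRingHom =
        (Algebra.TensorProduct.lmul' P (S := C)).toRingHom.comp e.toAlgHom.toRingHom := by
      refine RingHom.ext fun x => ?_
      induction x using TensorProduct.induction_on with
      | zero => simp
      | tmul a b => rfl
      | add a b ha hb => simp only [map_add, ha, hb]
    show (Algebra.TensorProduct.lmul' B (S := C)).toRingHom.Flat
    rw [h]
    exact RingHom.Flat.comp (RingHom.Flat.of_bijective e.bijective)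
      (Algebra.WeaklyEtale.flat_lmul' P C)

theorem smooth_generic (A : Type u) [CommRing A] [Algebra V A] [Algebra.Smooth V A]
    (p : Ideal A) [p.IsPrime]
    (hp : p ∈ ((IsLocalRing.maximalIdeal V).map (algebraMap V A)).minimalPrimes) :
    ∃ _ : IsDomain (Localization.AtPrime p), ValuationRing (Localization.AtPrime p) ∧
      Function.Injective (algebraMap V (Localization.AtPrime p)) ∧
      IsLocalHom (algebraMap V (Localization.AtPrime p)) ∧
      ∀ x : Localization.AtPrime p, x ≠ 0 →
        ∃ (v : V) (w : (Localization.AtPrime p)ˣ), x = algebraMap V (Localization.AtPrime p) v * w := by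
  obtain ⟨f, hfp, n, algP, towP, hse⟩ :=
    Algebra.IsSmoothAt.exists_isStandardEtale_mvPolynomial (R := V) (p := p)
  let S' := Localization.Away f
  let p' : Ideal S' := p.map (algebraMap A S')
  have hdisj : Disjoint (Submonoid.powers f : Set A) (p : Set A) :=
    (Ideal.disjoint_powers_iff_notMem_of_isPrime _).mpr hfp
  haveI : p'.IsPrime := IsLocalization.isPrime_of_isPrime_disjoint (.powers f) _ _ ‹_› hdisj
  have hcomap : p'.comap (algebraMap A S') = p :=
    IsLocalization.comap_map_of_isPrime_disjoint (.powers f) _ ‹_› hdisj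
  let Q := gaussPrime V n
  have hQ : Q = p'.comap (algebraMap (MvPolynomial (Fin n) V) S') := by
    have hle : Q ≤ p'.comap (algebraMap (MvPolynomial (Fin n) V) S') := by
      refine Ideal.map_le_iff_le_comap.2 fun v hv => ?_
      show algebraMap (MvPolynomial (Fin n) V) S' (algebraMap V _ v) ∈ p'
      rw [← IsScalarTower.algebraMap_apply, IsScalarTower.algebraMap_apply V A S']
      exact Ideal.mem_map_of_mem _ (hp.1.2 (Ideal.mem_map_of_mem _ hv))
    haveI : p'.LiesOver (p'.comap (algebraMap (MvPolynomial (Fin n) V) S')) := ⟨rfl⟩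
    obtain ⟨P₀, hP₀, hP₀p, hover⟩ := Ideal.exists_ideal_le_liesOver_of_le p' hle
    have h1 : (IsLocalRing.maximalIdeal V).map (algebraMap V A) ≤ P₀.comap (algebraMap A S') := by
      refine Ideal.map_le_iff_le_comap.2 fun v hv => ?_
      show algebraMap A S' (algebraMap V A v) ∈ P₀
      rw [← IsScalarTower.algebraMap_apply, IsScalarTower.algebraMap_apply V (MvPolynomial (Fin n) V) S']
      exact hover.over.le (Ideal.mem_map_of_mem _ hv)
    have h2 : p ≤ P₀.comap (algebraMap A S') :=
      hp.2 ⟨inferInstance, h1⟩ ((Ideal.comap_mono hP₀).trans hcomap.le)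
    have h3 : P₀ = p' := le_antisymm hP₀ (Ideal.map_le_iff_le_comap.2 h2)
    exact hover.over.trans (by rw [h3])
  let C' := Localization.AtPrime p'
  letI : Algebra (Gauss V n) C' :=
    (Localization.localRingHom Q p' (algebraMap (MvPolynomial (Fin n) V) S') hQ).toAlgebra
  haveI : IsScalarTower (MvPolynomial (Fin n) V) (Gauss V n) C' := .of_algebraMap_eq fun x => by
    rw [RingHom.algebraMap_toAlgebra, Localization.localRingHom_to_map,
      IsScalarTower.algebraMap_apply (MvPolynomial (Fin n) V) S' C']
  haveI : IsScalarTower V (Gauss V n) C' := .of_algebraMap_eq fun x => by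
    rw [IsScalarTower.algebraMap_apply V (MvPolynomial (Fin n) V) (Gauss V n),
      ← IsScalarTower.algebraMap_apply (MvPolynomial (Fin n) V) (Gauss V n) C',
      ← IsScalarTower.algebraMap_apply]
  haveI : Algebra.WeaklyEtale S' C' :=
    HenselLib.WEtNoeth.weaklyEtale_of_isLocalization p'.primeCompl
  haveI : Algebra.WeaklyEtale (MvPolynomial (Fin n) V) C' := Algebra.WeaklyEtale.trans _ S' _
  haveI : Algebra.WeaklyEtale (Gauss V n) C' := weaklyEtale_of_localization_base Q.primeCompl
  haveI := valuationRing_gauss V n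
  obtain ⟨hd, hv⟩ := HenselLib.ValRingWEt.valuationRing (Gauss V n) C'
  -- transport
  haveI : IsLocalization.AtPrime C' p := by
    have h := IsLocalization.isLocalization_isLocalization_atPrime_isLocalization (Submonoid.powers f) C' p'
    have e : (p'.comap (algebraMap A S')).primeCompl = p.primeCompl := by
      ext x
      exact not_congr (SetLike.ext_iff.1 hcomap x)
    show IsLocalization p.primeCompl C'
    rw [← e]
    exact h
  let e := IsLocalization.algEquiv p.primeCompl C' (Localization.AtPrime p)
  have heV : ∀ v, e (algebraMap V C' v) = algebraMap V _ v := fun v => by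
    rw [IsScalarTower.algebraMap_apply V A C', e.commutes, ← IsScalarTower.algebraMap_apply]
  haveI hd' : IsDomain (Localization.AtPrime p) := e.symm.toRingEquiv.toMulEquiv.isDomain C'
  have key : ∀ x : C', x ≠ 0 → ∃ (v : V) (w : C'ˣ), x = algebraMap V C' v * w := by
    intro x hx
    obtain ⟨b, w, hbw⟩ := HenselLib.ValRingWEt.exists_eq_unit_mul (Gauss V n) C' x hx
    have hb : b ≠ 0 := fun h => hx (by rw [hbw, h, map_zero, mul_zero])
    obtain ⟨c, t, rfl⟩ := exists_eq_mul V n b hb
    refine ⟨c, w * (Units.map (algebraMap (Gauss V n) C').toMonoidHom t), ?_⟩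
    rw [hbw, map_mul, ← IsScalarTower.algebraMap_apply]
    simp only [Units.val_mul, Units.coe_map, RingHom.toMonoidHom_eq_coe, MonoidHom.coe_coe]
    ring
  haveI : Module.Flat V C' := Module.Flat.trans V S' C'
  refine ⟨hd', ?_, ?_, ?_, fun x hx => ?_⟩
  · exact Function.Surjective.valuationRing (e.toAlgHom.toRingHom : C' →+* Localization.AtPrime p) e.surjective
  · intro a b h
    exact HenselLib.ValRingWEt.algebraMap_injective_of_flat V C' (e.injective (by rw [heV, heV, h]))
  · refine ⟨fun v hv => ?_⟩
    by_contra hnu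
    rw [IsScalarTower.algebraMap_apply V A (Localization.AtPrime p),
      IsLocalization.AtPrime.isUnit_to_map_iff (Localization.AtPrime p) p] at hv
    exact hv (hp.1.2 (Ideal.mem_map_of_mem _ ((IsLocalRing.mem_maximalIdeal v).2 hnu)))
  · obtain ⟨v, w, hvw⟩ := key (e.symm x) (fun h => hx (e.symm.injective (h.trans (map_zero _).symm)))
    refine ⟨v, Units.map (e.toAlgHom.toRingHom : C' →+* _).toMonoidHom w, ?_⟩
    have := congrArg e hvw
    rw [e.apply_symm_apply, map_mul, heV] at this
    exact this

end Groth.Agent.PruferLib.SmoothGeneric
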