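import Groth.Agent.PruferLib.ProjVanish
import Groth.Agent.Coherent.FinitePres
import Groth.Agent.Coherent.Affineness
import Groth.Agent.Coherent.SchemeCoh

/-!
# Serre vanishing on closed subschemes of projective space over a semilocal Prüfer domain
-/

set_option autoImplicit false
set_option backward.isDefEq.respectTransparency.types false

universe u

open CategoryTheory CategoryTheory.Limits AlgebraicGeometry TopologicalSpace
open Groth.Agent.Coherent Groth.Agent.PicLib Groth.Agent.AmpleLib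
open Groth.Agent.PruferLib.SheafFP

namespace Groth.Agent.PruferLib.ProjVanish

variable {R : Type u} [CommRing R] {X P : Scheme.{u}}

theorem secHom_comp (ι : X ⟶ P) (g : P ⟶ Spec (CommRingCat.of R)) (U : P.Opens) (r : R) :
    secHom (ι ≫ g) (ι ⁻¹ᵁ U) r = ι.app U (secHom g U r) := by
  have h : (ι ≫ g).appLE ⊤ (ι ⁻¹ᵁ U) le_top = g.appLE ⊤ U le_top ≫ ι.app U := by
    rw [← Scheme.Hom.appLE_eq_app, Scheme.Hom.appLE_comp_appLE]
  simp only [SheafFP.secHom, h, CommRingCat.hom_comp, RingHom.comp_apply]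

variable [IsDomain R] [Finite (MaximalSpectrum R)]
  (hR : ∀ (p : Ideal R) [p.IsPrime], ValuationRing (Localization.AtPrime p))
include hR

/-- Finitely presented sections push forward along closed immersions. -/
theorem FPSec.push (g : P ⟶ Spec (CommRingCat.of R)) [LocallyOfFiniteType g] (hg : NoTorsion g)
    (ι : X ⟶ P) [IsClosedImmersion ι] (hX : NoTorsion (ι ≫ g)) {M : X.Modules} (hM : FPSec M) :
    FPSec ((Scheme.Modules.pushforward ι).obj M) := by
  have := hM.qcoh
  refine ⟨isQCoh_push ι M, fun U hU => ?_⟩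
  letI := (secHom g U).toAlgebra
  haveI : Algebra.FiniteType R Γ(P, U) := finiteType_secHom g hU
  letI := (ι.app U).hom.toAlgebra
  haveI : Module.Finite Γ(P, U) Γ(X, ι ⁻¹ᵁ U) := IsFinite.finite_app ι U hU
  haveI := hM.fp _ (hU.preimage ι)
  haveI : Module.FinitePresentation Γ(P, U) Γ(X, ι ⁻¹ᵁ U) :=
    finitePresentation_of_torsionFree hR (hg U hU) _ fun r a hr h =>
      hX _ (hU.preimage ι) r a hr (by
        rw [secHom_comp]
        exact h)
  letI := Module.compHom Γ(M, ι ⁻¹ᵁ U) (ι.app U).hom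
  haveI : IsScalarTower Γ(P, U) Γ(X, ι ⁻¹ᵁ U) Γ(M, ι ⁻¹ᵁ U) :=
    IsScalarTower.of_algebraMap_smul fun _ _ => rfl
  exact (Module.FinitePresentation.trans Γ(P, U) Γ(M, ι ⁻¹ᵁ U) Γ(X, ι ⁻¹ᵁ U) :
    Module.FinitePresentation Γ(P, U) Γ(M, ι ⁻¹ᵁ U))

omit [CommRing R] [IsDomain R] [Finite (MaximalSpectrum R)] hR in
/-- The projection formula for twists. -/
theorem nonempty_push_twist (ι : X ⟶ P) {L : P.Modules} (hL : PicF.IsInvertible L) (n : ℕ) (M : X.Modules) :
    Nonempty ((Scheme.Modules.pushforward ι).obj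
      (CohB1.tensorMod M (CohB1.tensorPow ((Scheme.Modules.pullback ι).obj L) n)) ≅
      CohB1.tensorMod ((Scheme.Modules.pushforward ι).obj M) (CohB1.tensorPow L n)) := by
  have hP : FlatMod.IsFinLocFree (CohB1.tensorPow L n) := fun x => by
    obtain ⟨U, hx, e⟩ := isFinLocFreeOfRank_one (isInvertible_tensorPow hL n) x
    exact ⟨U, 1, hx, e⟩
  obtain ⟨e, -⟩ := exists_pullPowIso ι hL n
  exact ⟨(Scheme.Modules.pushforward ι).mapIso (tensorIso (Iso.refl M) e.symm ≪≫ tensorComm _ _) ≪≫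
    ((Coherent.projIso (f := ι) hP).app M).symm ≪≫ tensorComm _ _⟩

variable {n : ℕ} (ι : X ⟶ CohB1.ProjSpace n R) [IsClosedImmersion ι]
  [Flat (ι ≫ CohB1.ProjSpace.toSpec n R)]

/-- Serre vanishing on closed subschemes, in all positive degrees. -/
theorem exists_vanish_closed {M : X.Modules} (hM : FPSec M) :
    ∃ N : ℕ, ∀ m : ℕ, N ≤ m → ∀ q : ℕ, 1 ≤ q → Subsingleton (Coh.HH X (CohB1.tensorMod M
      (CohB1.tensorPow ((Scheme.Modules.pullback ι).obj (Twist.twistProjSpace n R 1)) m)) q) := by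
  classical
  haveI := isProper_projSpace_toSpec n R
  let P := CohB1.ProjSpace n R
  let φ : R →+* Γ(P, ⊤) := secHom (CohB1.ProjSpace.toSpec n R) ⊤
  have hM' : FPSec ((Scheme.Modules.pushforward ι).obj M) :=
    FPSec.push hR (CohB1.ProjSpace.toSpec n R) noTorsion_projSpace ι (noTorsion_of_flat _) hM
  have key : ∀ q : Finset.Icc 1 n, ∃ N : ℕ, ∀ m : ℕ, N ≤ m → Subsingleton (HA φ
      (CohB1.tensorMod ((Scheme.Modules.pushforward ι).obj M)
        (CohB1.tensorPow (Twist.twistProjSpace n R 1) m)) (⊤ : P.Opens) q.1) := fun q =>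
    exists_vanish hR φ n q.1 (Finset.mem_Icc.1 q.2).1 (by have := (Finset.mem_Icc.1 q.2).1; omega) _ hM'
  choose N hN using key
  have := hM.qcoh
  refine ⟨Finset.univ.sup N, fun m hm q hq => ?_⟩
  have hL := isInvertible_twist (R := R) (n := n) 1
  have : Coh.IsQCoh (CohB1.tensorMod M
      (CohB1.tensorPow ((Scheme.Modules.pullback ι).obj (Twist.twistProjSpace n R 1)) m)) :=
    isQCoh_tensor_invertible M (isInvertible_tensorPow (PicLoc.isInvertible_pullback ι hL) m)
  refine @Equiv.subsingleton _ _ (HHAffinePushEquiv ι _ q).toEquiv ?_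
  obtain ⟨e⟩ := nonempty_push_twist ι hL m M
  rcases le_or_gt q n with hqn | hqn
  · have h := hN ⟨q, Finset.mem_Icc.2 ⟨hq, hqn⟩⟩ m ((Finset.le_sup (Finset.mem_univ _)).trans hm)
    have h1 : Subsingleton (HA φ ((Scheme.Modules.pushforward ι).obj (CohB1.tensorMod M
        (CohB1.tensorPow ((Scheme.Modules.pullback ι).obj (Twist.twistProjSpace n R 1)) m)))
        (⊤ : P.Opens) q) := @Equiv.subsingleton _ _ (isoA φ e ⊤ q).toEquiv h
    exact @Equiv.subsingleton _ _ (HHLinEquiv _ q).toEquiv h1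
  · have : Coh.IsQCoh ((Scheme.Modules.pushforward ι).obj (CohB1.tensorMod M
        (CohB1.tensorPow ((Scheme.Modules.pullback ι).obj (Twist.twistProjSpace n R 1)) m))) :=
      isQCoh_push ι _
    exact subsingleton_HH_projSpace_of_lt _ q hqn

/-- Surjectivity on global sections of twists. -/
theorem exists_surjective_closed {F G : X.Modules} (hF : FPSec F) (hG : FPSec G) (ψ : F ⟶ G) [Epi ψ] :
    ∃ N : ℕ, ∀ m : ℕ, N ≤ m → Function.Surjective
      ((tensorMap ψ (𝟙 (CohB1.tensorPow ((Scheme.Modules.pullback ι).obj (Twist.twistProjSpace n R 1)) m))).app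
        (⊤ : X.Opens)) := by
  haveI := isProper_projSpace_toSpec n R
  haveI : LocallyOfFiniteType (ι ≫ CohB1.ProjSpace.toSpec n R) := inferInstance
  have hK : FPSec (Limits.kernel ψ) :=
    FPSec.kernel hR (ι ≫ CohB1.ProjSpace.toSpec n R) (noTorsion_of_flat _) ψ hF hG
  obtain ⟨N, hN⟩ := exists_vanish_closed hR ι hK
  refine ⟨N, fun m hm => ?_⟩
  let S : ShortComplex X.Modules := ShortComplex.mk (kernel.ι ψ) ψ (kernel.condition ψ)
  have hS : S.ShortExact :=
    { exact := ShortComplex.exact_kernel ψ, epi_g := ‹Epi ψ›, mono_f := inferInstance }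
  have hS' := EulerLib.twistSeq_shortExact (L := CohB1.tensorPow ((Scheme.Modules.pullback ι).obj
    (Twist.twistProjSpace n R 1)) m) (isInvertible_tensorPow
      (PicLoc.isInvertible_pullback ι (isInvertible_twist 1)) m) hS
  exact sections_top_surjective_of_subsingleton hS'
    (@Equiv.subsingleton _ _ (HHTopEquiv _ 1).symm.toEquiv (hN m hm 1 le_rfl))

end Groth.Agent.PruferLib.ProjVanish
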