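import Mathlib

/-!
# Saturated submodules of free modules over polynomial rings over valuation rings

A submodule of `R[X]^ι` with `R`-torsion free quotient is finitely generated when `R` is a valuation
ring: homogenise, and compare with the special fibre degree by degree.
-/

set_option autoImplicit false

universe u v w

open MvPolynomial

namespace Groth.Agent.PruferLib.FlatFP

variable {R : Type u} [CommRing R] {σ : Type v} {ι : Type w}

/-- `M` has `R`-torsion free quotient. -/
def IsSat (M : Submodule (MvPolynomial σ R) (ι → MvPolynomial σ R)) : Prop :=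
  ∀ (r : R) (x : ι → MvPolynomial σ R), r ≠ 0 → (C r : MvPolynomial σ R) • x ∈ M → x ∈ M

/-- Homogeneous vectors of degree `d`. -/
noncomputable def homVec (τ : Type v) (ι : Type w) (R : Type u) [CommRing R] (d : ℕ) :
    Submodule R (ι → MvPolynomial τ R) :=
  Submodule.pi Set.univ fun _ => homogeneousSubmodule τ R d

theorem mem_homVec {τ : Type v} {d : ℕ} {x : ι → MvPolynomial τ R} :
    x ∈ homVec τ ι R d ↔ ∀ i, (x i).IsHomogeneous d := by
  simp [homVec, mem_homogeneousSubmodule]

theorem finite_homVec (τ : Type v) [Finite τ] (ι : Type w) [Finite ι] (d : ℕ) :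
    Module.Finite R (homVec τ ι R d) := by
  classical
  cases nonempty_fintype τ
  cases nonempty_fintype ι
  let s : Finset (τ →₀ ℕ) := Finset.finsuppAntidiag Finset.univ d
  have hle : homVec τ ι R d ≤
      Submodule.span R (Set.range fun p : ι × s =>
        (Pi.single p.1 (monomial p.2.1 (1 : R)) : ι → MvPolynomial τ R)) := by
    intro x hx
    rw [← Finset.univ_sum_single x]
    refine Submodule.sum_mem _ fun i _ => ?_
    rw [(x i).as_sum, ← Finset.sum_attach]
    have hsingle : (Pi.single i (∑ m ∈ (x i).support.attach, monomial m.1 ((x i).coeff m.1)) :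
        ι → MvPolynomial τ R) =
        ∑ m ∈ (x i).support.attach, (x i).coeff m.1 • Pi.single i (monomial m.1 (1 : R)) := by
      rw [← LinearMap.single_apply R, map_sum]
      refine Finset.sum_congr rfl fun m _ => ?_
      rw [LinearMap.single_apply, ← Pi.single_smul', smul_monomial, smul_eq_mul, mul_one]
    rw [hsingle]
    refine Submodule.sum_mem _ fun m _ => Submodule.smul_mem _ _ (Submodule.subset_span ?_)
    have hm : m.1 ∈ s := by
      have h : Finsupp.degree m.1 = d := by
        rw [Finsupp.degree_eq_weight_one]
        exact (mem_homVec.1 hx i) (MvPolynomial.mem_support_iff.1 m.2)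
      rw [Finset.mem_finsuppAntidiag]
      refine ⟨?_, Finset.subset_univ _⟩
      rw [← h, Finsupp.degree_eq_sum]
    exact ⟨(i, ⟨m.1, hm⟩), rfl⟩
  have hfin : (Submodule.span R (Set.range fun p : ι × s =>
        (Pi.single p.1 (monomial p.2.1 (1 : R)) : ι → MvPolynomial τ R))).FG :=
    Submodule.fg_span (Set.finite_range _)
  rw [Module.Finite.iff_fg]
  have heq : homVec τ ι R d =
      Submodule.span R (Set.range fun p : ι × s =>
        (Pi.single p.1 (monomial p.2.1 (1 : R)) : ι → MvPolynomial τ R)) := by
    refine le_antisymm hle (Submodule.span_le.2 ?_)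
    rintro _ ⟨⟨i, m, hm⟩, rfl⟩
    refine mem_homVec.2 fun j => ?_
    show ((Pi.single i (monomial m (1 : R)) : ι → MvPolynomial τ R) j).IsHomogeneous d
    rw [Finset.mem_finsuppAntidiag] at hm
    by_cases h : j = i
    · subst h
      rw [Pi.single_eq_same]
      refine isHomogeneous_monomial _ ?_
      rw [Finsupp.degree_eq_sum]
      exact hm.1
    · rw [Pi.single_eq_of_ne h]
      exact isHomogeneous_zero _ _ _
  rw [heq]
  exact hfin

/-- Setting the homogenising variable to one. -/
noncomputable def dehom : MvPolynomial (Option σ) R →ₐ[R] MvPolynomial σ R :=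
  aeval fun o => o.elim 1 X

theorem dehom_rename (f : MvPolynomial σ R) : dehom (rename Option.some f) = f := by
  rw [dehom, aeval_rename]
  exact MvPolynomial.aeval_X_left_apply f

theorem dehom_C (r : R) : dehom (σ := σ) (C r) = C r := by
  rw [← MvPolynomial.algebraMap_eq, AlgHom.commutes, MvPolynomial.algebraMap_eq]

theorem exists_homogenize {d : ℕ} (f : MvPolynomial σ R) (hd : f.totalDegree ≤ d) :
    ∃ F : MvPolynomial (Option σ) R, F.IsHomogeneous d ∧ dehom F = f := by
  refine ⟨∑ i ∈ Finset.range (d + 1), X none ^ (d - i) * rename Option.some (homogeneousComponent i f),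
    IsHomogeneous.sum _ _ _ fun i hi => ?_, ?_⟩
  · have hid : i ≤ d := Nat.lt_succ_iff.1 (Finset.mem_range.1 hi)
    have h1 : ((X none : MvPolynomial (Option σ) R) ^ (d - i)).IsHomogeneous (1 * (d - i)) :=
      (isHomogeneous_X R none).pow _
    have h2 := h1.mul ((homogeneousComponent_isHomogeneous i f).rename_isHomogeneous (f := Option.some))
    rwa [one_mul, Nat.sub_add_cancel hid] at h2
  · rw [map_sum]
    conv_rhs => rw [← sum_homogeneousComponent f]
    have hX : dehom (σ := σ) (R := R) (X none) = 1 := by simp [dehom]
    simp only [map_mul, map_pow, hX, one_pow, one_mul, dehom_rename]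
    refine (Finset.sum_subset (Finset.range_mono (by omega)) fun i _ hi => ?_).symm
    exact homogeneousComponent_eq_zero _ _ (by
      simp only [Finset.mem_range, not_lt] at hi
      omega)

variable (M : Submodule (MvPolynomial σ R) (ι → MvPolynomial σ R))

/-- The homogeneous vectors of degree `d` dehomogenising into `M`. -/
noncomputable def homPart (d : ℕ) : Submodule R (ι → MvPolynomial (Option σ) R) :=
  homVec (Option σ) ι R d ⊓
    (M.restrictScalars R).comap (LinearMap.pi fun i => dehom.toLinearMap.comp (LinearMap.proj i))

theorem mem_homPart {d : ℕ} {x : ι → MvPolynomial (Option σ) R} :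
    x ∈ homPart M d ↔ (∀ i, (x i).IsHomogeneous d) ∧ (fun i => dehom (x i)) ∈ M := by
  rw [homPart, Submodule.mem_inf, mem_homVec]
  rfl

theorem exists_mem_homPart [Finite ι] (x : ι → MvPolynomial σ R) (hx : x ∈ M) :
    ∃ (d : ℕ) (y : ι → MvPolynomial (Option σ) R), y ∈ homPart M d ∧ (fun i => dehom (y i)) = x := by
  cases nonempty_fintype ι
  let d := Finset.univ.sup fun i => (x i).totalDegree
  choose y hy hy' using fun i =>
    exists_homogenize (d := d) (x i)
      (Finset.le_sup (f := fun i => (x i).totalDegree) (Finset.mem_univ i))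
  exact ⟨d, y, (mem_homPart M).2 ⟨hy, by rwa [funext hy']⟩, funext hy'⟩

theorem isSat_homPart {M : Submodule (MvPolynomial σ R) (ι → MvPolynomial σ R)} (hM : IsSat M)
    {d : ℕ} {r : R} (hr : r ≠ 0) {x : ι → MvPolynomial (Option σ) R}
    (hx : x ∈ homVec (Option σ) ι R d) (h : r • x ∈ homPart M d) : x ∈ homPart M d := by
  refine (mem_homPart M).2 ⟨mem_homVec.1 hx, hM r _ hr ?_⟩
  have h2 := ((mem_homPart M).1 h).2
  have e : (fun i => dehom ((r • x) i)) = (C r : MvPolynomial σ R) • (fun i => dehom (x i) : ι → MvPolynomial σ R) := by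
    funext i
    simp only [Pi.smul_apply, MvPolynomial.smul_eq_C_mul, smul_eq_mul, map_mul, dehom_C]
  rwa [e] at h2

section Valuation

variable [IsDomain R] [ValuationRing R] [Finite σ] [Finite ι]
variable {M : Submodule (MvPolynomial σ R) (ι → MvPolynomial σ R)}

theorem fg_homPart (hM : IsSat M) (d : ℕ) : (homPart M d).FG := by
  haveI := finite_homVec (R := R) (Option σ) ι d
  let H := homVec (Option σ) ι R d
  let N : Submodule R H := (homPart M d).comap H.subtype
  haveI : Module.Flat R (H ⧸ N) := by
    rw [Module.Flat.flat_iff_torsion_eq_bot_of_isBezout, Submodule.eq_bot_iff]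
    intro q hq
    obtain ⟨x, rfl⟩ := Submodule.Quotient.mk_surjective N q
    obtain ⟨⟨r, hr⟩, hrx⟩ := hq
    rw [Submonoid.smul_def, ← Submodule.Quotient.mk_smul, Submodule.Quotient.mk_eq_zero] at hrx
    rw [Submodule.Quotient.mk_eq_zero]
    exact isSat_homPart hM (nonZeroDivisors.ne_zero hr) x.2 hrx
  haveI : Module.Free R (H ⧸ N) := Module.free_of_flat_of_isLocalRing
  haveI : Module.FinitePresentation R (H ⧸ N) := Module.finitePresentation_of_projective R _
  have hN : N.FG := by
    have := Module.FinitePresentation.fg_ker N.mkQ N.mkQ_surjective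
    rwa [Submodule.ker_mkQ] at this
  have e : N.map H.subtype = homPart M d := by
    rw [Submodule.map_comap_eq, Submodule.range_subtype]
    exact inf_eq_right.2 inf_le_left
  rw [← e]
  exact hN.map _

theorem exists_dvd_all {α : Type*} (s : Finset α) (g : α → R) (hs : s.Nonempty) :
    ∃ a ∈ s, ∀ b ∈ s, g a ∣ g b := by
  classical
  induction hs using Finset.Nonempty.cons_induction with
  | singleton a => exact ⟨a, by simp, fun b hb => by rw [Finset.mem_singleton.1 hb]⟩
  | cons a s ha hs ih =>
    obtain ⟨b, hb, hb'⟩ := ih
    obtain ⟨c, h | h⟩ := ValuationRing.cond (g a) (g b)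
    · refine ⟨a, Finset.mem_cons_self _ _, fun x hx => ?_⟩
      rcases Finset.mem_cons.1 hx with rfl | hx
      · exact dvd_rfl
      · exact (Dvd.intro c h).trans (hb' x hx)
    · refine ⟨b, Finset.mem_cons_of_mem hb, fun x hx => ?_⟩
      rcases Finset.mem_cons.1 hx with rfl | hx
      · exact Dvd.intro c h
      · exact hb' x hx

/-- A homogeneous element of the saturation vanishing on the special fibre is a multiple of an
element of the maximal ideal. -/
theorem mem_maximal_smul_homPart (hM : IsSat M) {d : ℕ} {y : ι → MvPolynomial (Option σ) R}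
    (hy : y ∈ homPart M d) (h0 : ∀ i, MvPolynomial.map (IsLocalRing.residue R) (y i) = 0) :
    y ∈ IsLocalRing.maximalIdeal R • homPart M d := by
  classical
  cases nonempty_fintype ι
  let s : Finset (Σ _ : ι, (Option σ →₀ ℕ)) := Finset.univ.sigma fun i => (y i).support
  rcases s.eq_empty_or_nonempty with hs | hs
  · have : y = 0 := funext fun i => by
      rw [Pi.zero_apply, ← MvPolynomial.support_eq_empty, Finset.eq_empty_iff_forall_notMem]
      intro m hm
      have : (⟨i, m⟩ : Σ _ : ι, (Option σ →₀ ℕ)) ∈ s :=
        Finset.mem_sigma.2 ⟨Finset.mem_univ i, hm⟩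
      rw [hs] at this
      simp at this
    rw [this]
    exact zero_mem _
  obtain ⟨⟨i₀, m₀⟩, hmem, hdvd⟩ := exists_dvd_all s (fun p => (y p.1).coeff p.2) hs
  have hc0 : (y i₀).coeff m₀ ≠ 0 := MvPolynomial.mem_support_iff.1 (Finset.mem_sigma.1 hmem).2
  have hcm : (y i₀).coeff m₀ ∈ IsLocalRing.maximalIdeal R := by
    rw [← IsLocalRing.residue_eq_zero_iff, ← MvPolynomial.coeff_map, h0, coeff_zero]
  have hall : ∀ i m, (y i₀).coeff m₀ ∣ (y i).coeff m := fun i m => by
    by_cases hm : m ∈ (y i).support
    · exact hdvd ⟨i, m⟩ (Finset.mem_sigma.2 ⟨Finset.mem_univ i, hm⟩)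
    · rw [MvPolynomial.notMem_support_iff.1 hm]
      exact dvd_zero _
  choose g hg using fun i m => hall i m
  let z : ι → MvPolynomial (Option σ) R := fun i => ∑ m ∈ (y i).support, monomial m (g i m)
  have hz : y = (y i₀).coeff m₀ • z := by
    funext i
    rw [Pi.smul_apply]
    simp only [z, Finset.smul_sum, smul_monomial, smul_eq_mul]
    conv_lhs => rw [(y i).as_sum]
    exact Finset.sum_congr rfl fun m _ => by rw [← hg]
  have hzH : z ∈ homVec (Option σ) ι R d := mem_homVec.2 fun i =>
    IsHomogeneous.sum _ _ _ fun m hm => isHomogeneous_monomial _ (by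
      rw [Finsupp.degree_eq_weight_one]
      exact ((mem_homPart M).1 hy).1 i (MvPolynomial.mem_support_iff.1 hm))
  have hzN : z ∈ homPart M d := isSat_homPart hM hc0 hzH (hz ▸ hy)
  rw [hz]
  exact Submodule.smul_mem_smul hcm hzN

theorem exists_lift_homogeneous {τ : Type*} {e : ℕ} (p : MvPolynomial τ (IsLocalRing.ResidueField R))
    (hp : p.IsHomogeneous e) :
    ∃ q : MvPolynomial τ R, q.IsHomogeneous e ∧ MvPolynomial.map (IsLocalRing.residue R) q = p := by
  classical
  choose g hg using fun m => IsLocalRing.residue_surjective (p.coeff m)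
  refine ⟨∑ m ∈ p.support, monomial m (g m),
    IsHomogeneous.sum _ _ _ fun m hm => isHomogeneous_monomial _ ?_, ?_⟩
  · rw [Finsupp.degree_eq_weight_one]
    exact hp (MvPolynomial.mem_support_iff.1 hm)
  · rw [map_sum]
    conv_rhs => rw [p.as_sum]
    exact Finset.sum_congr rfl fun m _ => by rw [map_monomial, hg]

/-- Over a valuation ring a submodule of a finite free module over a polynomial ring with torsion
free quotient is finitely generated. -/
theorem fg_of_isSat (hM : IsSat M) : M.FG := by
  classical
  cases nonempty_fintype ι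
  let k := IsLocalRing.ResidueField R
  let red : (ι → MvPolynomial (Option σ) R) → (ι → MvPolynomial (Option σ) k) :=
    fun x i => MvPolynomial.map (IsLocalRing.residue R) (x i)
  let T : Set (ι → MvPolynomial (Option σ) k) := ⋃ d, red '' (homPart M d : Set _)
  obtain ⟨t, htT, ht⟩ : ∃ t : Finset (ι → MvPolynomial (Option σ) k), ↑t ⊆ T ∧
      Submodule.span (MvPolynomial (Option σ) k) (↑t : Set _) = Submodule.span _ T :=
    by
      obtain ⟨t, h1, h2⟩ := (Submodule.fg_span_iff_fg_span_finset_subset T).1 (IsNoetherian.noetherian (Submodule.span (MvPolynomial (Option σ) k) T))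
      exact ⟨t, h1, h2.symm⟩
  have hlift : ∀ p : t, ∃ (d : ℕ) (x : ι → MvPolynomial (Option σ) R), x ∈ homPart M d ∧ red x = p.1 := by
    intro p
    obtain ⟨d, x, hx, e⟩ := Set.mem_iUnion.1 (htT p.2)
    exact ⟨d, x, hx, e⟩
  choose deg F hF hFred using hlift
  let P : Submodule (MvPolynomial σ R) (ι → MvPolynomial σ R) :=
    Submodule.span _ (Set.range fun (p : t) (i : ι) => dehom (F p i))
  have hPM : P ≤ M := Submodule.span_le.2 (by
    rintro _ ⟨p, rfl⟩
    exact ((mem_homPart M).1 (hF p)).2)
  have key : ∀ d, homPart M d ≤
      (P.restrictScalars R).comap (LinearMap.pi fun i => dehom.toLinearMap.comp (LinearMap.proj i)) := by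
    intro d
    let Pd : Submodule R (ι → MvPolynomial (Option σ) R) :=
      (P.restrictScalars R).comap (LinearMap.pi fun i => dehom.toLinearMap.comp (LinearMap.proj i))
    have hle : homPart M d ≤ (Pd ⊓ homPart M d) ⊔ IsLocalRing.maximalIdeal R • homPart M d := by
      intro y hy
      have hyT : red y ∈ Submodule.span (MvPolynomial (Option σ) k) (↑t : Set _) := by
        rw [ht]
        exact Submodule.subset_span (Set.mem_iUnion.2 ⟨d, y, hy, rfl⟩)
      obtain ⟨c, hc⟩ := Submodule.mem_span_range_iff_exists_fun _ |>.1
        (show red y ∈ Submodule.span (MvPolynomial (Option σ) k) (Set.range fun p : t => p.1) by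
          simpa using hyT)
      -- truncate the coefficients to homogeneous ones
      let c' : t → MvPolynomial (Option σ) k := fun p =>
        if deg p ≤ d then homogeneousComponent (d - deg p) (c p) else 0
      have hc'hom : ∀ p, (c' p).IsHomogeneous (d - deg p) := fun p => by
        simp only [c']
        split_ifs
        · exact homogeneousComponent_isHomogeneous _ _
        · exact isHomogeneous_zero _ _ _
      choose h hhom hh using fun p => exists_lift_homogeneous (c' p) (hc'hom p)
      have hc'0 : ∀ p, ¬ deg p ≤ d → c' p = 0 := fun p hp => if_neg hp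
      let w : ι → MvPolynomial (Option σ) R := ∑ p : t, if deg p ≤ d then h p • F p else 0
      have hwN : w ∈ Pd ⊓ homPart M d := by
        refine Submodule.sum_mem _ fun p _ => ?_
        split_ifs with hp
        · have hP : (fun i => dehom ((h p • F p) i)) ∈ P := by
            have : (fun i => dehom ((h p • F p) i)) = dehom (h p) • fun i => dehom (F p i) := by
              funext i
              simp [Pi.smul_apply, smul_eq_mul]
            rw [this]
            exact P.smul_mem _ (Submodule.subset_span ⟨p, rfl⟩)
          refine ⟨hP, (mem_homPart M).2 ⟨fun i => ?_, hPM hP⟩⟩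
          have := (hhom p).mul (((mem_homPart M).1 (hF p)).1 i)
          rwa [Nat.sub_add_cancel hp] at this
        · exact zero_mem _
      have hred : ∀ i, MvPolynomial.map (IsLocalRing.residue R) ((y - w) i) = 0 := by
        intro i
        rw [Pi.sub_apply, map_sub, sub_eq_zero]
        show red y i = _
        have hyhom : (red y i).IsHomogeneous d := (((mem_homPart M).1 hy).1 i).map _
        have hterm : ∀ p : t, homogeneousComponent d (c p * p.1 i) = c' p * p.1 i := by
          intro p
          have hp : (p.1 i).IsHomogeneous (deg p) := by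
            rw [← hFred p]
            exact (((mem_homPart M).1 (hF p)).1 i).map _
          conv_lhs => rw [← sum_homogeneousComponent (c p), Finset.sum_mul, map_sum]
          have hcomp : ∀ j, homogeneousComponent d (homogeneousComponent j (c p) * p.1 i) =
              if j + deg p = d then homogeneousComponent j (c p) * p.1 i else 0 := by
            intro j
            rw [homogeneousComponent_of_mem ((homogeneousComponent_isHomogeneous j (c p)).mul hp)]
            exact if_congr eq_comm rfl rfl
          simp only [hcomp]
          simp only [c']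
          by_cases hd : deg p ≤ d
          · rw [if_pos hd]
            have : ∀ j, (j + deg p = d) ↔ j = d - deg p := fun j => by omega
            simp only [this]
            rw [Finset.sum_ite_eq']
            split_ifs with hm
            · rfl
            · rw [homogeneousComponent_eq_zero _ _ (by
                simp only [Finset.mem_range, not_lt] at hm
                omega), zero_mul]
          · rw [if_neg hd, zero_mul]
            exact Finset.sum_eq_zero fun j _ => if_neg (by omega)
        have h1 : red y i = ∑ p : t, c' p * p.1 i := by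
          conv_lhs => rw [← show homogeneousComponent d (red y i) = red y i by
            rw [homogeneousComponent_of_mem (hyhom : red y i ∈ homogeneousSubmodule _ k d), if_pos rfl]]
          rw [← hc, Finset.sum_apply, map_sum]
          exact Finset.sum_congr rfl fun p _ => hterm p
        rw [h1]
        simp only [w, Finset.sum_apply, map_sum]
        refine Finset.sum_congr rfl fun p _ => ?_
        split_ifs with hp
        · rw [Pi.smul_apply, smul_eq_mul, map_mul, hh, ← hFred p]
        · rw [Pi.zero_apply, map_zero, hc'0 p hp, zero_mul]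
      have := mem_maximal_smul_homPart hM ((homPart M d).sub_mem hy hwN.2) hred
      exact Submodule.mem_sup.2 ⟨w, hwN, y - w, this, add_sub_cancel w y⟩
    exact (Submodule.le_of_le_smul_of_le_jacobson_bot (fg_homPart hM d)
      (IsLocalRing.maximalIdeal_le_jacobson _) hle).trans inf_le_left
  have : P = M := by
    refine le_antisymm hPM fun x hx => ?_
    obtain ⟨d, y, hy, hyx⟩ := exists_mem_homPart M x hx
    rw [← hyx]
    exact key d hy
  rw [← this]
  exact Submodule.fg_span (Set.finite_range _)

end Valuation

end Groth.Agent.PruferLib.FlatFP
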