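import Groth.Agent.PruferLib.FlatFPPrufer

/-!
# Coherence of polynomial rings over Prüfer domains
-/

set_option autoImplicit false

universe u w

open MvPolynomial

namespace Groth.Agent.PruferLib.FlatFP

variable {R : Type u} [CommRing R] [IsDomain R] {d : ℕ}

theorem ker_isSat {n : ℕ} {M : Type w} [AddCommGroup M] [Module (MvPolynomial (Fin d) R) M]
    (f : (Fin n → MvPolynomial (Fin d) R) →ₗ[MvPolynomial (Fin d) R] M)
    (htf : ∀ (r : R) (m : M), r ≠ 0 → (C r : MvPolynomial (Fin d) R) • m = 0 → m = 0) :
    IsSat (LinearMap.ker f) := by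
  intro r x hr hx
  rw [LinearMap.mem_ker, map_smul] at hx
  exact LinearMap.mem_ker.2 (htf r _ hr hx)

variable (hR : ∀ (p : Ideal R) [p.IsPrime], ValuationRing (Localization.AtPrime p))
include hR

/-- A finite module without `R`-torsion over a polynomial ring is finitely presented. -/
theorem finitePresentation_of_torsionFree (M : Type w) [AddCommGroup M]
    [Module (MvPolynomial (Fin d) R) M] [Module.Finite (MvPolynomial (Fin d) R) M]
    (htf : ∀ (r : R) (m : M), r ≠ 0 → (C r : MvPolynomial (Fin d) R) • m = 0 → m = 0) :
    Module.FinitePresentation (MvPolynomial (Fin d) R) M := by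
  obtain ⟨n, f, hf⟩ := Module.Finite.exists_fin' (MvPolynomial (Fin d) R) M
  exact Module.finitePresentation_of_surjective f hf (fg_of_isSat_prufer hR (ker_isSat f htf))

/-- The polynomial ring is coherent: finite submodules of finitely presented modules are finitely
presented. -/
theorem finitePresentation_submodule {M : Type w} [AddCommGroup M] [Module (MvPolynomial (Fin d) R) M]
    [Module.FinitePresentation (MvPolynomial (Fin d) R) M] (N : Submodule (MvPolynomial (Fin d) R) M)
    (hN : N.FG) : Module.FinitePresentation (MvPolynomial (Fin d) R) N := by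
  obtain ⟨n, f, hf⟩ := Module.Finite.exists_fin' (MvPolynomial (Fin d) R) M
  have hK := Module.FinitePresentation.fg_ker f hf
  set N' := N.comap f with hN'
  have hfg : N'.FG := by
    refine Submodule.fg_of_fg_map_of_fg_inf_ker f ?_ ?_
    · rwa [hN', Submodule.map_comap_eq_of_surjective hf]
    · rw [inf_eq_right.2 (show LinearMap.ker f ≤ N' from fun x hx => by
        rw [hN', Submodule.mem_comap, LinearMap.mem_ker.1 hx]; exact N.zero_mem)]
      exact hK
  haveI : Module.Finite (MvPolynomial (Fin d) R) N' := Module.Finite.iff_fg.2 hfg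
  haveI : Module.FinitePresentation (MvPolynomial (Fin d) R) N' := by
    refine finitePresentation_of_torsionFree hR N' fun r m hr h => Subtype.ext (funext fun i => ?_)
    have hi : (C r : MvPolynomial (Fin d) R) * (m : Fin n → MvPolynomial (Fin d) R) i = 0 :=
      congrFun (congrArg Subtype.val h) i
    exact (mul_eq_zero.1 hi).resolve_left (fun h0 => hr ((C_eq_zero (σ := Fin d)).1 h0))
  let g : N' →ₗ[MvPolynomial (Fin d) R] N := f.restrict (fun x hx => hx)
  have hg : Function.Surjective g := by
    rintro ⟨y, hy⟩
    obtain ⟨x, rfl⟩ := hf y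
    exact ⟨⟨x, hy⟩, rfl⟩
  refine Module.finitePresentation_of_surjective g hg ?_
  have e : LinearMap.ker g = (LinearMap.ker f).comap N'.subtype := by
    ext x
    simp [g, Subtype.ext_iff]
  rw [e]
  refine Submodule.fg_of_fg_map_injective N'.subtype Subtype.val_injective ?_
  rw [Submodule.map_comap_eq, Submodule.range_subtype,
    inf_eq_right.2 (show LinearMap.ker f ≤ N' from fun x hx => by
      rw [hN', Submodule.mem_comap, LinearMap.mem_ker.1 hx]; exact N.zero_mem)]
  exact hK

/-- The kernel of a presentation of a torsion free algebra is finitely generated. -/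
theorem fg_ker_of_torsionFree {A : Type w} [CommRing A] [Algebra R A]
    (π : MvPolynomial (Fin d) R →ₐ[R] A) (hπ : Function.Surjective π)
    (htf : ∀ (r : R) (a : A), r ≠ 0 → algebraMap R A r * a = 0 → a = 0) :
    (RingHom.ker π).FG := by
  letI := π.toRingHom.toAlgebra
  haveI : Module.Finite (MvPolynomial (Fin d) R) A := Module.Finite.of_surjective (Algebra.linearMap _ A) hπ
  haveI := finitePresentation_of_torsionFree hR A fun r a hr h => htf r a hr (by
    have h' : π (C r) * a = 0 := (Algebra.smul_def (C r : MvPolynomial (Fin d) R) a).symm.trans h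
    rwa [← MvPolynomial.algebraMap_eq, AlgHom.commutes] at h')
  exact Module.FinitePresentation.fg_ker (Algebra.linearMap (MvPolynomial (Fin d) R) A) hπ

theorem finitePresentation_algebra (A : Type w) [CommRing A] [Algebra R A] [Algebra.FiniteType R A]
    (htf : ∀ (r : R) (a : A), r ≠ 0 → algebraMap R A r * a = 0 → a = 0) :
    Algebra.FinitePresentation R A := by
  obtain ⟨n, π, hπ⟩ := Algebra.FiniteType.iff_quotient_mvPolynomial''.1 ‹Algebra.FiniteType R A›
  exact Algebra.FinitePresentation.of_surjective hπ (fg_ker_of_torsionFree hR π hπ htf)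

end Groth.Agent.PruferLib.FlatFP
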