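import Mathlib

/-! Finite intersections of valuation subrings of a field with a subfield are semilocal Prüfer
domains (Nagata). -/

set_option autoImplicit false

namespace Groth.Agent.PruferLib

open Finset

universe u v

variable {L : Type u} [Field L]

theorem valuationSubring_inv_mem_of_residue_ne_zero (V : ValuationSubring L) (u : V)
    (hu : IsLocalRing.residue V u ≠ 0) : (u : L) ≠ 0 ∧ (u : L)⁻¹ ∈ V := by
  have h := (IsLocalRing.residue_ne_zero_iff_isUnit u).mp hu
  obtain ⟨w, hw⟩ := h.exists_right_inv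
  have hw' : (u : L) * (w : L) = 1 := congrArg Subtype.val hw
  refine ⟨left_ne_zero_of_mul_eq_one hw', ?_⟩
  rw [inv_eq_of_mul_eq_one_right hw']
  exact w.2

/-- If `x ∈ V` and `n+1` is a prime avoiding a bad value, the geometric sum is a unit of `V`. -/
theorem geomSum_unit (V : ValuationSubring L) (x : L) (hx : x ∈ V) (s : ℕ) (hs : s.Prime)
    (h1 : ∀ r, IsLocalRing.residue V ⟨x, hx⟩ = 1 → CharP (IsLocalRing.ResidueField V) r → s ≠ r)
    (h2 : s ≠ orderOf (IsLocalRing.residue V ⟨x, hx⟩)) :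
    (∑ j ∈ range s, x ^ j) ≠ 0 ∧ (∑ j ∈ range s, x ^ j)⁻¹ ∈ V := by
  have hval : ((∑ j ∈ range s, (⟨x, hx⟩ : V) ^ j : V) : L) = ∑ j ∈ range s, x ^ j := by
    rw [← ValuationSubring.subtype_apply, map_sum]
    simp
  rw [← hval]
  refine valuationSubring_inv_mem_of_residue_ne_zero V _ ?_
  rw [map_sum]
  simp only [map_pow]
  generalize IsLocalRing.residue V ⟨x, hx⟩ = c at h1 h2
  by_cases hc : c = 1
  · subst hc
    simp only [one_pow, sum_const, card_range, nsmul_eq_mul, mul_one]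
    intro h
    obtain ⟨r, hr⟩ := CharP.exists (IsLocalRing.ResidueField V)
    rcases (Nat.dvd_prime hs).mp ((CharP.cast_eq_zero_iff (IsLocalRing.ResidueField V) r s).mp h)
      with h' | h'
    · exact CharP.char_ne_one (IsLocalRing.ResidueField V) r h'
    · exact h1 r rfl hr h'.symm
  · intro h
    have h3 : c ^ s = 1 := by
      have := geom_sum_mul c s
      rw [h, zero_mul] at this
      exact sub_eq_zero.mp this.symm
    have : Fact s.Prime := ⟨hs⟩
    exact h2 (orderOf_eq_prime h3 hc).symm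

/-- Nagata's lemma: a partition of unity `x ^ k / w`, `k ≤ n`, inside every `V i`. -/
theorem exists_geomSum {ι : Type v} [Finite ι] (V : ι → ValuationSubring L) (x : L) :
    ∃ n : ℕ, 1 ≤ n ∧ (∑ j ∈ range (n + 1), x ^ j) ≠ 0 ∧
      ∀ i, ∀ k ≤ n, x ^ k / (∑ j ∈ range (n + 1), x ^ j) ∈ V i := by
  classical
  let _ : Fintype ι := Fintype.ofFinite ι
  let W : Option ι → ValuationSubring L := fun i ↦ i.elim ⊤ V
  let bad : Option ι → ℕ := fun i ↦
    if h : x ∈ W i then
      max (ringChar (IsLocalRing.ResidueField (W i))) (orderOf (IsLocalRing.residue (W i) ⟨x, h⟩))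
    else 0
  obtain ⟨s, hs, hp⟩ := Nat.exists_infinite_primes (Finset.univ.sup bad + 1)
  obtain ⟨n, rfl⟩ : ∃ n, s = n + 1 := ⟨s - 1, (Nat.succ_pred_eq_of_pos hp.pos).symm⟩
  have hlt : ∀ i, bad i < n + 1 := fun i ↦
    lt_of_le_of_lt (Finset.le_sup (f := bad) (Finset.mem_univ i)) hs
  have key : ∀ i, (h : x ∈ W i) → (∑ j ∈ range (n + 1), x ^ j) ≠ 0 ∧
      (∑ j ∈ range (n + 1), x ^ j)⁻¹ ∈ W i := fun i h ↦ by
    have hb := hlt i
    simp only [bad, dif_pos h, max_lt_iff] at hb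
    refine geomSum_unit (W i) x h (n + 1) hp (fun r _ hr ↦ ?_) hb.2.ne'
    rw [← ringChar.eq (IsLocalRing.ResidueField (W i)) r]
    exact hb.1.ne'
  have hne := (key none (ValuationSubring.mem_top x)).1
  refine ⟨n, Nat.le_of_lt_succ hp.one_lt, hne, fun i k hk ↦ ?_⟩
  by_cases h : x ∈ V i
  · rw [div_eq_mul_inv]
    exact mul_mem (pow_mem h k) (key (some i) h).2
  · have hy : x⁻¹ ∈ V i := ((V i).mem_or_inv_mem x).resolve_left h
    have hx0 : x ≠ 0 := fun h0 ↦ h (h0 ▸ zero_mem _)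
    obtain ⟨y, hyeq⟩ : ∃ y : V i, (y : L) = x⁻¹ := ⟨⟨_, hy⟩, rfl⟩
    have hynu : IsLocalRing.residue (V i) y = 0 := by
      by_contra hu
      have := (valuationSubring_inv_mem_of_residue_ne_zero (V i) y hu).2
      rw [hyeq, inv_inv] at this
      exact h this
    let u : V i := ∑ j ∈ range (n + 1), y ^ j
    have hu : IsLocalRing.residue (V i) u ≠ 0 := by
      simp [u, map_sum, hynu, zero_pow_eq]
    obtain ⟨hu0, hu1⟩ := valuationSubring_inv_mem_of_residue_ne_zero (V i) u hu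
    have hsum : x ^ n * (u : L) = ∑ j ∈ range (n + 1), x ^ j := by
      have hcoe : (u : L) = ∑ j ∈ range (n + 1), (x⁻¹) ^ j := by
        rw [← ValuationSubring.subtype_apply, map_sum]
        simp [hyeq]
      rw [hcoe, mul_sum, ← sum_range_reflect (fun j ↦ x ^ j) (n + 1)]
      refine sum_congr rfl fun j hj ↦ ?_
      have hjn : j ≤ n := Nat.le_of_lt_succ (mem_range.mp hj)
      rw [show n + 1 - 1 - j = n - j by omega, inv_pow, pow_sub₀ x hx0 hjn]
    have : x ^ k / (∑ j ∈ range (n + 1), x ^ j) = x⁻¹ ^ (n - k) * (u : L)⁻¹ := by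
      rw [← hsum, div_eq_mul_inv, mul_inv, ← mul_assoc, inv_pow, pow_sub₀ x hx0 hk, mul_inv_rev,
        inv_inv]
    rw [this]
    exact mul_mem (pow_mem hy _) hu1

section Inter

variable {ι : Type v} [Finite ι] (V : ι → ValuationSubring L) (K : Subfield L) (A : Subring L)
  (hA : ∀ x, x ∈ A ↔ x ∈ K ∧ ∀ i, x ∈ V i)

include hA

/-- The partition of unity inside `A`. -/
theorem exists_partition {x : L} (hx : x ∈ K) :
    ∃ (n : ℕ) (a : ℕ → A), 1 ≤ n ∧ (a 0 : L) ≠ 0 ∧ (∑ k ∈ range (n + 1), a k = 1) ∧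
      ∀ k, k < n → x * (a k : L) = (a (k + 1) : L) := by
  obtain ⟨n, hn, hne, hmem⟩ := exists_geomSum V x
  set w := ∑ j ∈ range (n + 1), x ^ j with hw
  have hwK : w ∈ K := sum_mem fun j _ ↦ pow_mem hx j
  have hk : ∀ k, k ≤ n → x ^ k / w ∈ A := fun k hk ↦
    (hA _).mpr ⟨div_mem (pow_mem hx k) hwK, fun i ↦ hmem i k hk⟩
  refine ⟨n, fun k ↦ if h : k ≤ n then ⟨_, hk k h⟩ else 0, hn, ?_, ?_, fun k hkn ↦ ?_⟩
  · simp [hne]
  · refine Subtype.ext ?_
    rw [AddSubmonoidClass.coe_finsetSum, OneMemClass.coe_one]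
    rw [sum_congr rfl (g := fun k ↦ x ^ k / w) fun k hk' ↦ by
      rw [dif_pos (Nat.le_of_lt_succ (mem_range.mp hk'))]]
    rw [← sum_div, ← hw, div_self hne]
  · simp only
    rw [dif_pos hkn.le, dif_pos (show k + 1 ≤ n from hkn)]
    simp only
    ring

/-- Every element of `K` is a fraction of `A`. -/
theorem exists_fraction {x : L} (hx : x ∈ K) :
    ∃ a b : L, a ∈ A ∧ b ∈ A ∧ b ≠ 0 ∧ x = a / b := by
  obtain ⟨n, a, hn, h0, -, hstep⟩ := exists_partition V K A hA hx
  refine ⟨a 1, a 0, (a 1).2, (a 0).2, h0, ?_⟩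
  rw [eq_div_iff h0, hstep 0 hn]

/-- For a prime `p` of `A` and `x ∈ K`, one of `x`, `x⁻¹` is in `A_p`. -/
theorem exists_mul_eq (p : Ideal A) [p.IsPrime] {x : L} (hx : x ∈ K) :
    ∃ a t : A, t ∉ p ∧ (x * (t : L) = (a : L) ∨ x ≠ 0 ∧ x⁻¹ * (t : L) = (a : L)) := by
  obtain ⟨n, a, hn, -, hsum, hstep⟩ := exists_partition V K A hA hx
  obtain ⟨k, hkr, hk⟩ : ∃ k ∈ range (n + 1), a k ∉ p := by
    by_contra! h
    have : (1 : A) ∈ p := hsum ▸ sum_mem h
    exact (Ideal.ne_top_iff_one p).mp ‹p.IsPrime›.ne_top this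
  cases k with
  | zero => exact ⟨a 1, a 0, hk, Or.inl (hstep 0 hn)⟩
  | succ k =>
    have hs := hstep k (Nat.lt_of_succ_lt_succ (mem_range.mp hkr))
    refine ⟨a k, a (k + 1), hk, Or.inr ?_⟩
    have hx0 : x ≠ 0 := by
      rintro rfl
      apply hk
      rw [show a (k + 1) = 0 from Subtype.ext (by simpa using hs.symm)]
      exact p.zero_mem
    exact ⟨hx0, by rw [← hs, inv_mul_cancel_left₀ hx0]⟩

theorem valuationRing_atPrime (p : Ideal A) [p.IsPrime] :
    ValuationRing (Localization.AtPrime p) := by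
  refine ValuationRing.iff_dvd_total.mpr ⟨fun y z ↦ ?_⟩
  obtain ⟨a, s, rfl⟩ := IsLocalization.exists_mk'_eq p.primeCompl y
  obtain ⟨b, t, rfl⟩ := IsLocalization.exists_mk'_eq p.primeCompl z
  have hunit : ∀ (s : p.primeCompl),
      IsUnit (algebraMap A (Localization.AtPrime p) s) := fun s ↦
    IsLocalization.map_units _ s
  have hdvd : ∀ (a b : A) (s t : p.primeCompl),
      algebraMap A (Localization.AtPrime p) a ∣ algebraMap A (Localization.AtPrime p) b →
      IsLocalization.mk' (Localization.AtPrime p) a s ∣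
        IsLocalization.mk' (Localization.AtPrime p) b t := fun a b s t h ↦ by
    rw [IsLocalization.mk'_eq_mul_mk'_one (M := p.primeCompl) a s,
      IsLocalization.mk'_eq_mul_mk'_one (M := p.primeCompl) b t]
    have hu : IsUnit (IsLocalization.mk' (Localization.AtPrime p) (1 : A) s) :=
      IsUnit.of_mul_eq_one (algebraMap A _ s) (by rw [IsLocalization.mk'_spec, map_one])
    exact (hu.mul_right_dvd.mpr h).mul_right _
  by_cases hb : b = 0
  · left; rw [hb, IsLocalization.mk'_zero]; exact dvd_zero _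
  by_cases ha : a = 0
  · right; rw [ha, IsLocalization.mk'_zero]; exact dvd_zero _
  have hb' : (b : L) ≠ 0 := fun h ↦ hb (Subtype.ext h)
  have ha' : (a : L) ≠ 0 := fun h ↦ ha (Subtype.ext h)
  obtain ⟨c, r, hr, h⟩ := exists_mul_eq V K A hA p
    (x := (a : L) / (b : L)) (div_mem ((hA _).mp a.2).1 ((hA _).mp b.2).1)
  rcases h with h | ⟨-, h⟩
  · right
    refine hdvd b a t s ((hunit ⟨r, hr⟩).dvd_mul_right.mp ⟨algebraMap A _ c, ?_⟩)
    rw [← map_mul, ← map_mul]
    congr 1
    refine Subtype.ext ?_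
    rw [Subring.coe_mul, Subring.coe_mul, ← h]
    field_simp
  · left
    refine hdvd a b s t ((hunit ⟨r, hr⟩).dvd_mul_right.mp ⟨algebraMap A _ c, ?_⟩)
    rw [← map_mul, ← map_mul]
    congr 1
    refine Subtype.ext ?_
    rw [Subring.coe_mul, Subring.coe_mul, ← h]
    field_simp

theorem finite_maximalSpectrum : Finite (MaximalSpectrum A) := by
  classical
  let _ : Fintype ι := Fintype.ofFinite ι
  let W : Option ι → ValuationSubring L := fun i ↦ i.elim ⊤ V
  have hW : ∀ x, x ∈ A → ∀ i, x ∈ W i := fun x hx i ↦ by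
    cases i with
    | none => exact ValuationSubring.mem_top x
    | some i => exact ((hA x).mp hx).2 i
  let c : Option ι → Ideal A := fun i ↦
    (IsLocalRing.maximalIdeal (W i)).comap
      (Subring.inclusion (S := A) (T := (W i).toSubring) fun x hx ↦ hW x hx i)
  have hc : ∀ i, (c i).IsPrime := fun i ↦ Ideal.comap_isPrime _ _
  have hm : ∀ m : MaximalSpectrum A, ∃ i, m.asIdeal = c i := by
    intro m
    have hsub : (m.asIdeal : Set A) ⊆ ⋃ i ∈ ((Finset.univ : Finset (Option ι)) : Set (Option ι)),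
        (c i : Set A) := by
      intro a ha
      by_contra hn
      simp only [Finset.coe_univ, Set.mem_univ, Set.iUnion_true, Set.mem_iUnion, SetLike.mem_coe,
        not_exists] at hn
      have hu : ∀ i, (a : L) ≠ 0 ∧ (a : L)⁻¹ ∈ W i := fun i ↦
        valuationSubring_inv_mem_of_residue_ne_zero (W i) _ (fun h ↦
          hn i ((IsLocalRing.residue_eq_zero_iff _).mp h))
      have hmem : (a : L)⁻¹ ∈ A :=
        (hA _).mpr ⟨inv_mem ((hA _).mp a.2).1, fun i ↦ (hu (some i)).2⟩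
      refine m.isMaximal.ne_top (Ideal.eq_top_of_isUnit_mem _ ha
        (IsUnit.of_mul_eq_one ⟨_, hmem⟩ (Subtype.ext ?_)))
      exact mul_inv_cancel₀ (hu none).1
    rw [Ideal.subset_union_prime none none (fun i _ _ _ ↦ hc i)] at hsub
    obtain ⟨i, -, hi⟩ := hsub
    exact ⟨i, m.isMaximal.eq_of_le (hc i).ne_top hi⟩
  choose i hi using hm
  exact Finite.of_injective i fun m m' h ↦ MaximalSpectrum.ext (by rw [hi m, hi m', h])

end Inter

end Groth.Agent.PruferLib
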