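import Mathlib
import Groth.Agent.PruferLib.FiniteIntersection

/-! Chains of primes in valuation-like rings are bounded by the transcendence degree over the prime
ring plus one. -/

set_option autoImplicit false

namespace Groth.Agent.PruferLib

open Finset MvPolynomial

universe u v

section Dominated

variable {A : Type u} [CommRing A] (P : Ideal A)

/-- `a` is strictly dominated by `b` at `P`. -/
def Dominated (a b : A) : Prop := ∃ t c : A, t ∉ P ∧ c ∈ P ∧ a * t = b * c

variable {P}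

theorem Dominated.trans [P.IsPrime] {a b c : A} (h : Dominated P a b) (h' : Dominated P b c) :
    Dominated P a c := by
  obtain ⟨t, r, ht, hr, e⟩ := h
  obtain ⟨t', r', ht', -, e'⟩ := h'
  refine ⟨t * t', r' * r, ‹P.IsPrime›.mul_notMem ht ht', P.mul_mem_left _ hr, ?_⟩
  calc a * (t * t') = a * t * t' := by ring
    _ = b * t' * r := by rw [e]; ring
    _ = c * (r' * r) := by rw [e']; ring

theorem exists_max_dominated [P.IsPrime] {ι : Type v} (s : Finset ι) (hs : s.Nonempty) (f : ι → A)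
    (h : ∀ i ∈ s, ∀ j ∈ s, i ≠ j → Dominated P (f i) (f j) ∨ Dominated P (f j) (f i)) :
    ∃ m ∈ s, ∀ i ∈ s, i ≠ m → Dominated P (f i) (f m) := by
  classical
  induction hs using Finset.Nonempty.cons_induction with
  | singleton a => exact ⟨a, mem_singleton_self a, fun i hi hne ↦ absurd (mem_singleton.mp hi) hne⟩
  | cons a s ha hs ih =>
    obtain ⟨m, hm, hmax⟩ := ih fun i hi j hj ↦ h i (mem_cons_of_mem hi) j (mem_cons_of_mem hj)
    rcases h a (mem_cons_self a s) m (mem_cons_of_mem hm) (fun e ↦ ha (e ▸ hm)) with h' | h'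
    · refine ⟨m, mem_cons_of_mem hm, fun i hi hne ↦ ?_⟩
      rcases mem_cons.mp hi with rfl | hi
      · exact h'
      · exact hmax i hi hne
    · refine ⟨a, mem_cons_self a s, fun i hi hne ↦ ?_⟩
      rcases mem_cons.mp hi with rfl | hi
      · exact absurd rfl hne
      · rcases eq_or_ne i m with rfl | hne'
        · exact h'
        · exact (hmax i hi hne').trans h'

variable [IsDomain A] [P.IsPrime] {n : ℕ} (y : Fin n → A) (Q : Fin n → Ideal A)
  [∀ i, (Q i).IsPrime] (hQP : ∀ i, Q i ≤ P) (hmem : ∀ i, y i ∈ Q i)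
  (hnot : ∀ i l, i < l → y l ∉ Q i)
  (hdiv : ∀ i a b, a ∈ Q i → b ∉ Q i → ∃ t c, t ∉ P ∧ c ∈ Q i ∧ a * t = b * c)

include hQP hmem hnot hdiv

theorem dominated_monomial (e e' : Fin n → ℕ) (i : Fin n) (hlt : ∀ l, l < i → e l = e' l)
    (hi : e' i < e i) : Dominated P (∏ l, y l ^ e l) (∏ l, y l ^ e' l) := by
  let Y := y i ^ (e i - e' i) * ∏ l ∈ univ.filter (i < ·), y l ^ e l
  let Y' := ∏ l ∈ univ.filter (i < ·), y l ^ e' l
  have hY : Y ∈ Q i := (Q i).mul_mem_right _ (Ideal.pow_mem_of_mem _ (hmem i) _ (by omega))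
  have hY' : Y' ∉ Q i := fun h ↦ by
    obtain ⟨l, hl, hmem'⟩ := (inferInstance : (Q i).IsPrime).prod_mem_iff.mp h
    exact hnot i l (mem_filter.mp hl).2 ((inferInstance : (Q i).IsPrime).mem_of_pow_mem _ hmem')
  obtain ⟨t, c, ht, hc, e0⟩ := hdiv i Y Y' hY hY'
  have hsplit : ∀ f : Fin n → ℕ, ∏ l, y l ^ f l =
      (∏ l ∈ univ.filter (· < i), y l ^ f l) * (y i ^ f i * ∏ l ∈ univ.filter (i < ·), y l ^ f l) :=
    fun f ↦ by
    rw [← prod_filter_mul_prod_filter_not univ (· < i) (fun l ↦ y l ^ f l)]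
    congr 1
    rw [← prod_cons (s := univ.filter (i < ·)) (a := i) (by simp) (f := fun l ↦ y l ^ f l)]
    refine prod_congr ?_ fun _ _ ↦ rfl
    ext l
    simp [le_iff_eq_or_lt, eq_comm]
  refine ⟨t, c, ht, hQP i hc, ?_⟩
  rw [hsplit e, hsplit e', prod_congr rfl (g := fun l ↦ y l ^ e' l)
    (fun l hl ↦ by rw [hlt l (mem_filter.mp hl).2])]
  have : y i ^ e i = y i ^ e' i * y i ^ (e i - e' i) := by
    rw [← pow_add, Nat.add_sub_cancel' hi.le]
  rw [this]
  calc _ = (∏ l ∈ univ.filter (· < i), y l ^ e' l) * y i ^ e' i * (Y * t) := by ring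
    _ = _ := by rw [e0]; ring

theorem monomial_sum_ne_zero (hy0 : ∀ i, y i ≠ 0) {σ : Type v} (s : Finset σ) (hs : s.Nonempty)
    (E : σ → Fin n → ℕ) (hE : Set.InjOn E s) (u : σ → A) (hu : ∀ d ∈ s, u d ∉ P) :
    ∑ d ∈ s, u d * ∏ l, y l ^ E d l ≠ 0 := by
  classical
  have hcomp : ∀ d ∈ s, ∀ d' ∈ s, d ≠ d' →
      Dominated P (∏ l, y l ^ E d l) (∏ l, y l ^ E d' l) ∨
        Dominated P (∏ l, y l ^ E d' l) (∏ l, y l ^ E d l) := by
    intro d hd d' hd' hne
    have hne' : (univ.filter fun l ↦ E d l ≠ E d' l).Nonempty := by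
      by_contra h
      rw [not_nonempty_iff_eq_empty, filter_eq_empty_iff] at h
      exact hne (hE hd hd' (funext fun l ↦ not_not.mp (h (mem_univ l))))
    have hi := min'_mem _ hne'
    have hmin : ∀ l, l < min' _ hne' → E d l = E d' l := fun l hl ↦ by
      by_contra h
      exact not_lt_of_ge (min'_le (univ.filter fun l ↦ E d l ≠ E d' l) l (by simp [h])) hl
    rcases lt_or_gt_of_ne (mem_filter.mp hi).2 with h | h
    · exact Or.inr (dominated_monomial y Q hQP hmem hnot hdiv _ _ _ (fun l hl ↦ (hmin l hl).symm) h)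
    · exact Or.inl (dominated_monomial y Q hQP hmem hnot hdiv _ _ _ hmin h)
  obtain ⟨m, hm, hmax⟩ := exists_max_dominated s hs _ hcomp
  intro h0
  choose! t c ht hc htc using hmax
  set M := fun d ↦ ∏ l, y l ^ E d l with hM
  set T := ∏ d ∈ s.erase m, t d with hT
  have hTP : T ∉ P := fun h ↦ by
    obtain ⟨d, hd, hd'⟩ := ‹P.IsPrime›.prod_mem_iff.mp h
    exact ht d (mem_of_mem_erase hd) (ne_of_mem_erase hd) hd'
  set C := ∑ d ∈ s.erase m, u d * c d * ∏ d' ∈ (s.erase m).erase d, t d' with hC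
  have hCP : C ∈ P := sum_mem fun d hd ↦
    P.mul_mem_right _ (P.mul_mem_left _ (hc d (mem_of_mem_erase hd) (ne_of_mem_erase hd)))
  have key : (∑ d ∈ s.erase m, u d * M d) * T = M m * C := by
    rw [sum_mul, hC, mul_sum]
    refine sum_congr rfl fun d hd ↦ ?_
    rw [hT, ← mul_prod_erase _ _ hd]
    have := htc d (mem_of_mem_erase hd) (ne_of_mem_erase hd)
    calc _ = u d * (M d * t d) * ∏ d' ∈ (s.erase m).erase d, t d' := by ring
      _ = _ := by rw [hM, this]; ring
  have hz : M m * (u m * T + C) = 0 := by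
    rw [mul_add, ← key, ← zero_mul T, ← h0, ← add_sum_erase s _ hm]
    ring
  have hMm : M m ≠ 0 := prod_ne_zero_iff.mpr fun l _ ↦ pow_ne_zero _ (hy0 l)
  have : u m * T ∈ P := by
    rw [eq_neg_of_add_eq_zero_left (mul_eq_zero.mp hz |>.resolve_left hMm)]
    exact P.neg_mem hCP
  exact (‹P.IsPrime›.mem_or_mem this).elim (hu m hm) hTP

end Dominated

section Bound

variable {L : Type u} [Field L]

/-- A chain of `n + 1` primes gives `n - 1` elements algebraically independent over the prime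
ring. -/
theorem length_le_of_chain {ι : Type v} [Finite ι] (V : ι → ValuationSubring L) (s : Finset L)
    (A : Subring L) (hA : ∀ x, x ∈ A ↔ x ∈ Subfield.closure (s : Set L) ∧ ∀ i, x ∈ V i)
    (ch : LTSeries (PrimeSpectrum A)) : ch.length ≤ s.card + 1 := by
  classical
  obtain ⟨n, hn⟩ : ∃ n, ch.length = n := ⟨_, rfl⟩
  rcases Nat.eq_zero_or_pos n with h0 | hpos
  · omega
  let K := Subfield.closure (s : Set L)
  let p : Fin (n + 1) → PrimeSpectrum A := fun i ↦ ch ⟨i, by omega⟩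
  have hpmono : StrictMono p := fun i j hij ↦ ch.strictMono (Fin.mk_lt_mk.mpr hij)
  let P := (p (Fin.last n)).asIdeal
  have hex : ∀ i : Fin n, ∃ a, a ∈ (p i.succ).asIdeal ∧ a ∉ (p i.castSucc).asIdeal := fun i ↦
    SetLike.exists_of_lt (hpmono Fin.castSucc_lt_succ)
  choose x hx hx' using hex
  let Q : Fin n → Ideal A := fun i ↦ (p i.succ).asIdeal
  have hQP : ∀ i, Q i ≤ P := fun i ↦ hpmono.monotone (Fin.le_last _)
  have hle : ∀ i l : Fin n, i < l → Q i ≤ (p l.castSucc).asIdeal := fun i l h ↦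
    hpmono.monotone (Fin.succ_le_castSucc_iff.mpr h)
  have hdiv : ∀ i a b, a ∈ Q i → b ∉ Q i → ∃ t c, t ∉ P ∧ c ∈ Q i ∧ a * t = b * c := by
    intro i a b ha hb
    have hb' : (b : L) ≠ 0 := fun h ↦ hb ((show b = 0 from Subtype.ext h) ▸ zero_mem _)
    obtain ⟨c, t, ht, h⟩ := exists_mul_eq V K A hA P
      (div_mem ((hA _).mp a.2).1 ((hA _).mp b.2).1 : (a : L) / (b : L) ∈ K)
    rcases h with h | ⟨hne, h⟩
    · have e : a * t = b * c := Subtype.ext (by
        rw [Subring.coe_mul, Subring.coe_mul, ← h]; field_simp)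
      exact ⟨t, c, ht, (((inferInstance : (Q i).IsPrime).mem_or_mem
        (e ▸ (Q i).mul_mem_right t ha)).resolve_left hb), e⟩
    · have ha' : (a : L) ≠ 0 := fun h' ↦ hne (by rw [h', zero_div])
      have e : b * t = a * c := Subtype.ext (by
        rw [Subring.coe_mul, Subring.coe_mul, ← h]; field_simp)
      exact absurd (((inferInstance : (Q i).IsPrime).mem_or_mem
        (e.symm ▸ (Q i).mul_mem_right c ha)).resolve_left hb) (fun h' ↦ ht (hQP i h'))
  -- the prime number below `P`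
  let φ := Int.castRingHom A
  obtain ⟨q, hq⟩ : ∃ q : ℤ, P.comap φ = Ideal.span {q} :=
    ⟨_, (Ideal.span_singleton_generator _).symm⟩
  have hqP : φ q ∈ P := (Ideal.ext_iff.mp hq q).mpr (Ideal.mem_span_singleton_self q)
  -- the position of `q`, and the decomposition of integers
  obtain ⟨j, y, hy0, hy, hy', hyx, hdec⟩ : ∃ (j : Fin n) (y : Fin n → A), (∀ i, y i ≠ 0) ∧
      (∀ i, y i ∈ Q i) ∧ (∀ i l, i < l → y l ∉ Q i) ∧ (∀ i, i ≠ j → y i = x i) ∧
      (∀ c : ℤ, φ c ≠ 0 → ∃ (a : ℕ) (u : A), u ∉ P ∧ φ c = y j ^ a * u) := by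
    have hxne : ∀ i, x i ≠ 0 := fun i h ↦ hx' i (h ▸ zero_mem _)
    have hxn : ∀ i l, i < l → x l ∉ Q i := fun i l h hm ↦ hx' l (hle i l h hm)
    by_cases hq0 : φ q = 0
    · refine ⟨⟨0, hpos⟩, x, hxne, hx, hxn, fun _ _ ↦ rfl, fun c hc ↦
        ⟨0, φ c, fun hcP ↦ hc ?_, by simp⟩⟩
      obtain ⟨d, rfl⟩ := Ideal.mem_span_singleton.mp ((Ideal.ext_iff.mp hq c).mp hcP)
      rw [map_mul, hq0, zero_mul]
    · have hne : (univ.filter fun i : Fin n ↦ φ q ∈ Q i).Nonempty := ⟨⟨n - 1, by omega⟩, by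
        simp only [mem_filter, mem_univ, true_and, Q]
        rw [show (⟨n - 1, by omega⟩ : Fin n).succ = Fin.last n from Fin.ext (by simp; omega)]
        exact hqP⟩
      set j := min' _ hne with hj
      have hjmem : φ q ∈ Q j := (mem_filter.mp (min'_mem _ hne)).2
      refine ⟨j, Function.update x j (φ q), fun i ↦ ?_, fun i ↦ ?_, fun i l h ↦ ?_,
        fun i hi ↦ Function.update_of_ne hi _ _, fun c hc ↦ ?_⟩
      · rcases eq_or_ne i j with rfl | hi
        · rwa [Function.update_self]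
        · rw [Function.update_of_ne hi]; exact hxne i
      · rcases eq_or_ne i j with rfl | hi
        · rwa [Function.update_self]
        · rw [Function.update_of_ne hi]; exact hx i
      · rcases eq_or_ne l j with rfl | hl
        · rw [Function.update_self]
          intro hm
          exact not_lt_of_ge (min'_le (univ.filter fun i : Fin n ↦ φ q ∈ Q i) i
            (mem_filter.mpr ⟨mem_univ i, hm⟩)) h
        · rw [Function.update_of_ne hl]; exact hxn i l h
      · rw [Function.update_self]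
        have hc0 : c ≠ 0 := fun h ↦ hc (by rw [h, map_zero])
        have hqu : ¬ IsUnit q := fun hu ↦ by
          have : P.comap φ = ⊤ := hq.trans (Ideal.span_singleton_eq_top.mpr hu)
          exact (Ideal.IsPrime.comap φ (K := P)).ne_top this
        obtain ⟨u, he, hu⟩ := (FiniteMultiplicity.exists_eq_pow_mul_and_not_dvd
          (Int.finiteMultiplicity_iff.mpr ⟨fun h ↦ hqu (Int.isUnit_iff_natAbs_eq.mpr h), hc0⟩))
        refine ⟨multiplicity q c, φ u, fun h ↦ hu ?_, ?_⟩
        swap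
        · conv_lhs => rw [he]
          rw [map_mul, map_pow]
        exact Ideal.mem_span_singleton.mp ((Ideal.ext_iff.mp hq u).mp h)
  -- independence over the prime ring of `K`
  let B : Subring K := ⊥
  let σ := {i : Fin n // i ≠ j}
  let xK : σ → K := fun i ↦ ⟨(x i.1 : L), ((hA _).mp (x i.1).2).1⟩
  have hindep : AlgebraicIndependent B xK := by
    rw [algebraicIndependent_iff]
    intro f hf
    by_contra hf0
    have hsupp : f.support.Nonempty := MvPolynomial.support_nonempty.mpr hf0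
    have hcast : ∀ d ∈ f.support, ∃ c : ℤ, φ c ≠ 0 ∧
        ((φ c : A) : L) = (((f.coeff d : B) : K) : L) := by
      intro d hd
      obtain ⟨c, hc⟩ := Subring.mem_bot.mp (f.coeff d).2
      refine ⟨c, fun h ↦ MvPolynomial.mem_support_iff.mp hd ?_, by
        rw [← hc]; simp [φ]⟩
      refine Subtype.ext (Subtype.ext ?_)
      have := congrArg (fun a : A ↦ (a : L)) h
      simp only [φ, eq_intCast, ZeroMemClass.coe_zero] at this ⊢
      rw [← hc]
      simpa using this
    choose! c hc0 hc using hcast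
    choose! a u hu hau using fun d (hd : d ∈ f.support) ↦ hdec (c d) (hc0 d hd)
    let E : (σ →₀ ℕ) → Fin n → ℕ := fun d i ↦ if h : i = j then a d else d ⟨i, h⟩
    have hEinj : Set.InjOn E f.support := fun d _ d' _ h ↦ Finsupp.ext fun i ↦ by
      simpa [E, i.2] using congrFun h i.1
    refine monomial_sum_ne_zero y Q hQP hy hy' hdiv hy0 f.support hsupp E hEinj u hu ?_
    refine Subtype.ext ?_
    rw [ZeroMemClass.coe_zero, ← ZeroMemClass.coe_zero K, ← hf]
    rw [MvPolynomial.aeval_def, MvPolynomial.eval₂_eq']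
    push_cast
    refine sum_congr rfl fun d hd ↦ ?_
    have h1 : (((f.coeff d : B) : K) : L) = ((y j : A) : L) ^ a d * (u d : L) := by
      rw [← hc d hd, hau d hd]; simp
    rw [← mul_prod_erase univ (fun l ↦ (y l : L) ^ E d l) (mem_univ j)]
    have h2 : ∏ i : σ, ((x i.1 : A) : L) ^ d i =
        ∏ l ∈ univ.erase j, ((y l : A) : L) ^ E d l := by
      rw [prod_subtype (univ.erase j) (p := fun i ↦ i ≠ j) (by simp)]
      exact prod_congr rfl fun i _ ↦ by simp [E, i.2, hyx i.1 i.2]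
    rw [← h2, show E d j = a d by simp [E]]
    simp only [Algebra.algebraMap_ofSubsemiring_apply, xK]
    rw [h1]
    ring
  let sK : Finset K := s.attach.map
    ⟨fun e : {e // e ∈ s} ↦ (⟨e.1, Subfield.subset_closure (Finset.mem_coe.mpr e.2)⟩ : K),
    fun e e' h ↦ Subtype.ext (congrArg (fun z : K ↦ (z : L)) h)⟩
  have halg : Algebra.IsAlgebraic (Algebra.adjoin B (sK : Set K)) K := by
    refine ⟨fun z ↦ ?_⟩
    obtain ⟨w₁, h₁, w₂, h₂, e⟩ := Subfield.mem_closure_iff.mp z.2
    have hsub : ∀ w, w ∈ Subring.closure (s : Set L) →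
        ∃ hw : w ∈ K, (⟨w, hw⟩ : K) ∈ Algebra.adjoin B (sK : Set K) := by
      intro w hw
      induction hw using Subring.closure_induction with
      | mem e he =>
        exact ⟨Subfield.subset_closure he, Algebra.subset_adjoin (by simp [sK]; exact he)⟩
      | zero => exact ⟨zero_mem _, zero_mem (Algebra.adjoin B (sK : Set K))⟩
      | one => exact ⟨one_mem _, one_mem (Algebra.adjoin B (sK : Set K))⟩
      | add a b _ _ ha hb => exact ⟨add_mem ha.1 hb.1, add_mem ha.2 hb.2⟩
      | neg a _ ha => exact ⟨neg_mem ha.1, neg_mem ha.2⟩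
      | mul a b _ _ ha hb => exact ⟨mul_mem ha.1 hb.1, mul_mem ha.2 hb.2⟩
    obtain ⟨h1, h1'⟩ := hsub w₁ h₁
    obtain ⟨h2, h2'⟩ := hsub w₂ h₂
    have : z = (⟨w₁, h1⟩ : K) * (⟨w₂, h2⟩ : K)⁻¹ := Subtype.ext (by
      simp [← e, div_eq_mul_inv])
    rw [this]
    exact (isAlgebraic_algebraMap (⟨_, h1'⟩ : Algebra.adjoin B (sK : Set K))).mul
      (isAlgebraic_algebraMap (⟨_, h2'⟩ : Algebra.adjoin B (sK : Set K))).inv
  have hcard := hindep.lift_cardinalMk_le_trdeg.trans
    (Cardinal.lift_le.mpr (Algebra.IsAlgebraic.trdeg_le_cardinalMk B (sK : Set K) (alg := halg)))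
  rw [Finset.coe_sort_coe, Cardinal.mk_coe_finset, Cardinal.mk_fintype, Cardinal.lift_natCast, Cardinal.lift_natCast,
    Nat.cast_le] at hcard
  simp only [σ, Fintype.card_subtype_compl, Fintype.card_fin, Fintype.card_unique, sK, card_map,
    card_attach] at hcard
  omega

theorem ringKrullDim_lt_top {ι : Type v} [Finite ι] (V : ι → ValuationSubring L) (s : Finset L)
    (A : Subring L) (hA : ∀ x, x ∈ A ↔ x ∈ Subfield.closure (s : Set L) ∧ ∀ i, x ∈ V i) :
    ringKrullDim A < ⊤ := by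
  refine lt_of_le_of_lt (b := (((s.card + 1 : ℕ) : ℕ∞) : WithBot ℕ∞)) (iSup_le fun ch ↦ ?_) ?_
  · exact_mod_cast length_le_of_chain V s A hA ch
  · exact WithBot.coe_lt_coe.mpr (ENat.natCast_lt_top _)

end Bound

end Groth.Agent.PruferLib
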