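import Groth.Agent.PruferLib.DimFn
import Groth.Prelude.Def_Found
import Mathlib.RingTheory.Localization.AtPrime.Basic
import Mathlib.RingTheory.Spectrum.Prime.Topology

/-!
# Catenarity over Prüfer domains
-/

set_option autoImplicit false

universe u

namespace Groth.Agent.PruferLib.DimFn

variable {A : Type u} [CommRing A] (d : PrimeSpectrum A → ℤ)
  (hd : ∀ a b : PrimeSpectrum A, a < b → d b < d a ∧ (a ⋖ b ↔ d a = d b + 1))
  (hbd : ∃ N : ℤ, ∀ a, |d a| ≤ N)
include hd

theorem length_le_rank (s : LTSeries (PrimeSpectrum A)) : (s.length : ℤ) ≤ d s.head - d s.last := by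
  have key : ∀ i : Fin (s.length + 1), (i.val : ℤ) ≤ d s.head - d (s i) := fun i => by
    induction i using Fin.induction with
    | zero => simp [RelSeries.head]
    | succ i ih =>
      have := (hd _ _ (s.step i)).1
      simp only [Fin.val_succ, Fin.val_castSucc] at *
      omega
  exact key (Fin.last _)

theorem length_eq_rank (s : LTSeries (PrimeSpectrum A))
    (h : ∀ i : Fin s.length, s (Fin.castSucc i) ⋖ s (Fin.succ i)) : (s.length : ℤ) = d s.head - d s.last := by
  have key : ∀ i : Fin (s.length + 1), (i.val : ℤ) = d s.head - d (s i) := fun i => by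
    induction i using Fin.induction with
    | zero => simp [RelSeries.head]
    | succ i ih =>
      have := (hd _ _ (s.step i)).2.1 (h i)
      simp only [Fin.val_succ, Fin.val_castSucc] at *
      omega
  exact key (Fin.last _)

include hbd

theorem isCatenary_of_rank : CAlg.IsCatenary A := by
  obtain ⟨N, hN⟩ := hbd
  refine ⟨fun p q _ => ⟨(2 * N).toNat, fun s _ _ => ?_⟩, fun s t hh hl hs ht => ?_⟩
  · have := length_le_rank d hd s
    have := abs_le.1 (hN s.head)
    have := abs_le.1 (hN s.last)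
    omega
  · have h1 := length_eq_rank d hd s hs
    have h2 := length_eq_rank d hd t ht
    rw [hh, hl] at h1
    omega

theorem ringKrullDim_lt_top_of_rank : ringKrullDim A < ⊤ := by
  obtain ⟨N, hN⟩ := hbd
  refine lt_of_le_of_lt (b := ((((2 * N).toNat : ℕ) : ℕ∞) : WithBot ℕ∞)) ?_ ?_
  · refine iSup_le fun s => ?_
    have := length_le_rank d hd s
    have := abs_le.1 (hN s.head)
    have := abs_le.1 (hN s.last)
    have h : s.length ≤ (2 * N).toNat := by omega
    exact WithBot.coe_le_coe.2 (Nat.cast_le.2 h)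
  · exact WithBot.coe_lt_coe.2 (ENat.coe_lt_top _)

omit hd hbd

variable (R : Type u) [CommRing R] {S : Type u} [CommRing S] [Algebra R S]

/-- The dimension function. -/
noncomputable def rank (P : PrimeSpectrum S) : ℤ :=
  (D R P.asIdeal : ℤ) - ((P.asIdeal.under R).height.toNat : ℤ)

variable {R} [IsDomain R] [Algebra.FiniteType R S] (hdim : ringKrullDim R < ⊤)
include hdim

theorem rank_spec (hR : ∀ (p : Ideal R) [p.IsPrime], ValuationRing (Localization.AtPrime p))
    {a b : PrimeSpectrum S} (h : a < b) :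
    rank R b < rank R a ∧ (a ⋖ b ↔ rank R a = rank R b + 1) :=
  main hR hdim (show a.asIdeal < b.asIdeal from h)

theorem exists_bound : ∃ N : ℤ, ∀ a : PrimeSpectrum S, |rank R a| ≤ N := by
  obtain ⟨n, π, hπ⟩ := Algebra.FiniteType.iff_quotient_mvPolynomial''.1 ‹Algebra.FiniteType R S›
  obtain ⟨k, hk⟩ : ∃ k : ℕ, ∀ I : Ideal R, I.IsPrime → I.height.toNat ≤ k := by
    obtain ⟨c, hc⟩ : ∃ c : ℕ∞, ringKrullDim R = (c : WithBot ℕ∞) :=
      WithBot.ne_bot_iff_exists.1 (fun hb => by simpa [hb] using ringKrullDim_nonneg_of_nontrivial (R := R)) |>.imp fun c hc => hc.symm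
    refine ⟨c.toNat, fun I hI => ENat.toNat_le_toNat ?_ ?_⟩
    · exact WithBot.coe_le_coe.1 (hc ▸ Ideal.height_le_ringKrullDim_of_ne_top hI.ne_top)
    · rintro rfl
      rw [hc] at hdim
      exact lt_irrefl _ hdim
  refine ⟨n + k, fun P => ?_⟩
  have hD : D R P.asIdeal ≤ n := by
    let g : Fin n → S ⧸ P.asIdeal := fun i => Ideal.Quotient.mk _ (π (MvPolynomial.X i))
    let f : MvPolynomial (Fin n) (R ⧸ P.asIdeal.under R) →ₐ[R ⧸ P.asIdeal.under R] S ⧸ P.asIdeal :=
      MvPolynomial.aeval g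
    have hf : Function.Surjective f := fun y => by
      obtain ⟨y, rfl⟩ := Ideal.Quotient.mk_surjective y
      obtain ⟨F, rfl⟩ := hπ y
      refine ⟨F.map (Ideal.Quotient.mk _), ?_⟩
      have := mk_aeval P.asIdeal (fun i => π (MvPolynomial.X i)) F
      rw [show (MvPolynomial.aeval fun i => π (MvPolynomial.X i)) = π from (MvPolynomial.aeval_unique π).symm] at this
      exact this.symm
    have h := Cardinal.toNat_le_toNat (lift_trdeg_le_of_surjective f hf) (by simp)
    simpa [D] using h
  have := hk _ (inferInstance : (P.asIdeal.under R).IsPrime)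
  have e : rank R P = (D R P.asIdeal : ℤ) - ((P.asIdeal.under R).height.toNat : ℤ) := rfl
  rw [e, abs_le]
  omega

variable (M : Submonoid S) (T : Type u) [CommRing T] [Algebra S T]

theorem exists_bound_comap :
    ∃ N : ℤ, ∀ a : PrimeSpectrum T, |(rank R ∘ PrimeSpectrum.comap (algebraMap S T)) a| ≤ N :=
  (exists_bound (S := S) hdim).imp fun _ hN a => hN _

theorem rank_spec_comap (hR : ∀ (p : Ideal R) [p.IsPrime], ValuationRing (Localization.AtPrime p))
    [IsLocalization M T] {a b : PrimeSpectrum T} (h : a < b) :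
    (rank R ∘ PrimeSpectrum.comap (algebraMap S T)) b < (rank R ∘ PrimeSpectrum.comap (algebraMap S T)) a ∧
      (a ⋖ b ↔ (rank R ∘ PrimeSpectrum.comap (algebraMap S T)) a =
        (rank R ∘ PrimeSpectrum.comap (algebraMap S T)) b + 1) := by
  let e := IsLocalization.orderIsoOfPrime M T
  have hle : ∀ x y : PrimeSpectrum T,
      PrimeSpectrum.comap (algebraMap S T) x ≤ PrimeSpectrum.comap (algebraMap S T) y → x ≤ y := fun x y hxy =>
    (e.le_iff_le (x := ⟨x.asIdeal, x.isPrime⟩) (y := ⟨y.asIdeal, y.isPrime⟩)).1 hxy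
  have hlt : ∀ x y : PrimeSpectrum T, x < y →
      PrimeSpectrum.comap (algebraMap S T) x < PrimeSpectrum.comap (algebraMap S T) y := fun x y hxy =>
    lt_of_le_not_ge (Ideal.comap_mono hxy.le) fun h' => hxy.not_ge (hle _ _ h')
  refine ⟨(rank_spec hdim hR (hlt a b h)).1, ?_⟩
  have key : a ⋖ b ↔ PrimeSpectrum.comap (algebraMap S T) a ⋖ PrimeSpectrum.comap (algebraMap S T) b := by
    refine ⟨fun hc => ⟨hlt a b h, fun {c} h1 h2 => ?_⟩, fun hc => ⟨h, fun {c} h1 h2 => ?_⟩⟩
    · have hd : Disjoint (M : Set S) (c.asIdeal : Set S) := by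
        have := ((IsLocalization.isPrime_iff_isPrime_disjoint M T b.asIdeal).1 b.isPrime).2
        exact this.mono_right h2.le
      let z : PrimeSpectrum T := ⟨(e.symm ⟨c.asIdeal, c.isPrime, hd⟩).1, (e.symm ⟨c.asIdeal, c.isPrime, hd⟩).2⟩
      have hz : PrimeSpectrum.comap (algebraMap S T) z = c :=
        PrimeSpectrum.ext (congrArg Subtype.val (e.apply_symm_apply ⟨c.asIdeal, c.isPrime, hd⟩))
      rw [← hz] at h1 h2
      exact hc.2 (lt_of_le_not_ge (hle _ _ h1.le) fun h' => h1.not_ge (Ideal.comap_mono h'))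
        (lt_of_le_not_ge (hle _ _ h2.le) fun h' => h2.not_ge (Ideal.comap_mono h'))
    · exact hc.2 (hlt _ _ h1) (hlt _ _ h2)
  exact key.trans (rank_spec hdim hR (hlt a b h)).2

end Groth.Agent.PruferLib.DimFn
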