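import Mathlib.RingTheory.ZariskisMainTheorem
import Mathlib.RingTheory.AlgebraicIndependent.TranscendenceBasis
import Mathlib.RingTheory.Valuation.ValuationRing
import Mathlib.RingTheory.Algebraic.Integral
import Mathlib.RingTheory.Spectrum.Prime.Jacobson
import Mathlib.RingTheory.Jacobson.Ring
import Mathlib.RingTheory.Ideal.Height

/-!
# The dimension function on finite type algebras over Prüfer domains

For primes `P ≤ Q` of a finite type algebra `S` over a Prüfer domain the transcendence degree of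
`S/Q` is at most that of `S/P`, with equality exactly for the components of the fibres of `S/P`.
-/

set_option autoImplicit false

universe u

open MvPolynomial

namespace Groth.Agent.PruferLib.DimFn

variable {R S : Type u} [CommRing R] [CommRing S] [Algebra R S]

/-- Transcendence degree of `S/Q` over its image of `R`. -/
noncomputable def D (R : Type u) {S : Type u} [CommRing R] [CommRing S] [Algebra R S] (Q : Ideal S) :
    ℕ :=
  Cardinal.toNat (Algebra.trdeg (R ⧸ Q.under R) (S ⧸ Q))

section Indep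

variable (Q : Ideal S) {ι : Type u} (y : ι → S)

theorem mk_aeval {ι : Type*} (y : ι → S) (F : MvPolynomial ι R) :
    Ideal.Quotient.mk Q (aeval y F) =
      aeval (fun i => Ideal.Quotient.mk Q (y i)) (F.map (Ideal.Quotient.mk (Q.under R))) := by
  rw [← Ideal.Quotient.algebraMap_eq (Q.under R), aeval_map_algebraMap]
  exact (congrFun (congrArg DFunLike.coe (comp_aeval y (Ideal.Quotient.mkₐ R Q))) F :)

theorem indep_iff :
    AlgebraicIndependent (R ⧸ Q.under R) (fun i => Ideal.Quotient.mk Q (y i)) ↔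
      ∀ F : MvPolynomial ι R, aeval y F ∈ Q → ∀ m, F.coeff m ∈ Q.under R := by
  rw [algebraicIndependent_iff]
  constructor
  · intro h F hF m
    have := h (F.map (Ideal.Quotient.mk _)) (by
      rw [← mk_aeval]; exact Ideal.Quotient.eq_zero_iff_mem.2 hF)
    refine Ideal.Quotient.eq_zero_iff_mem.1 ?_
    rw [← coeff_map, this, coeff_zero]
  · intro h G hG
    obtain ⟨F, rfl⟩ := map_surjective (Ideal.Quotient.mk (Q.under R)) Ideal.Quotient.mk_surjective G
    rw [← mk_aeval, Ideal.Quotient.eq_zero_iff_mem] at hG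
    ext m
    rw [coeff_map, coeff_zero]
    exact Ideal.Quotient.eq_zero_iff_mem.2 (h F hG m)

variable [Q.IsPrime] [Algebra.FiniteType R S]

theorem trdeg_lt : Algebra.trdeg (R ⧸ Q.under R) (S ⧸ Q) < Cardinal.aleph0 := by
  haveI : Algebra.FiniteType R (S ⧸ Q) :=
    Algebra.FiniteType.of_surjective (Ideal.Quotient.mkₐ R Q) Ideal.Quotient.mk_surjective
  haveI : Algebra.FiniteType (R ⧸ Q.under R) (S ⧸ Q) :=
    Algebra.FiniteType.of_restrictScalars_finiteType R _ _
  exact trdeg_lt_aleph0_of_finiteType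

theorem card_le [Fintype ι] (h : AlgebraicIndependent (R ⧸ Q.under R) (fun i => Ideal.Quotient.mk Q (y i))) :
    Fintype.card ι ≤ D R Q := by
  have := Cardinal.toNat_le_toNat h.cardinalMk_le_trdeg (trdeg_lt Q)
  rwa [Cardinal.mk_fintype, Cardinal.toNat_natCast] at this

/-- A transcendence basis, lifted. -/
theorem exists_basis : ∃ (ι : Type u) (_ : Fintype ι) (y : ι → S),
    AlgebraicIndependent (R ⧸ Q.under R) (fun i => Ideal.Quotient.mk Q (y i)) ∧ Fintype.card ι = D R Q ∧
      ∀ x : S, x ∉ Q → ∃ F : MvPolynomial ι R, aeval y F ∉ Q ∧ aeval y F ∈ Q ⊔ Ideal.span {x} := by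
  classical
  haveI : FaithfulSMul (R ⧸ Q.under R) (S ⧸ Q) :=
    (faithfulSMul_iff_algebraMap_injective _ _).2 Ideal.algebraMap_quotient_injective
  obtain ⟨ι, b, hb⟩ := exists_isTranscendenceBasis' (R ⧸ Q.under R) (S ⧸ Q)
  have hc := hb.cardinalMk_eq_trdeg
  haveI : Finite ι := Cardinal.lt_aleph0_iff_finite.1 (hc ▸ trdeg_lt Q)
  haveI := Fintype.ofFinite ι
  choose y hy using fun i => Ideal.Quotient.mk_surjective (b i)
  have hby : b = fun i => Ideal.Quotient.mk Q (y i) := funext fun i => (hy i).symm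
  subst hby
  refine ⟨ι, inferInstance, y, hb.1, ?_, fun x hx => ?_⟩
  · rw [D, ← hc, Cardinal.mk_fintype, Cardinal.toNat_natCast]
  · have hx0 : Ideal.Quotient.mk Q x ∈ nonZeroDivisors (S ⧸ Q) :=
      mem_nonZeroDivisors_of_ne_zero fun h => hx (Ideal.Quotient.eq_zero_iff_mem.1 h)
    obtain ⟨⟨r, hr⟩, hr0, hdvd⟩ := (hb.isAlgebraic.isAlgebraic (Ideal.Quotient.mk Q x)).exists_nonzero_dvd hx0
    rw [Algebra.adjoin_range_eq_range_aeval] at hr
    obtain ⟨G, hG⟩ := hr
    obtain ⟨F, rfl⟩ := map_surjective (Ideal.Quotient.mk (Q.under R)) Ideal.Quotient.mk_surjective G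
    have hG' : Ideal.Quotient.mk Q (aeval y F) = r := (mk_aeval Q y F).trans hG
    refine ⟨F, fun h => hr0 (Subtype.ext ?_), ?_⟩
    · exact hG'.symm.trans (Ideal.Quotient.eq_zero_iff_mem.2 h)
    · obtain ⟨c, hc⟩ := hdvd
      obtain ⟨c, rfl⟩ := Ideal.Quotient.mk_surjective c
      have hmem : aeval y F - x * c ∈ Q := Ideal.Quotient.eq.1 (by
        rw [hG', map_mul]
        exact hc)
      rw [show aeval y F = (aeval y F - x * c) + x * c by ring]
      exact add_mem (Ideal.mem_sup_left hmem)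
        (Ideal.mem_sup_right (Ideal.mem_span_singleton'.2 ⟨c, mul_comm _ _⟩))

end Indep

section Prufer

variable [IsDomain R] (hR : ∀ (p : Ideal R) [p.IsPrime], ValuationRing (Localization.AtPrime p))
include hR

theorem dvd_total_at (q : Ideal R) [q.IsPrime] (a b : R) :
    ∃ s c : R, s ∉ q ∧ (s * a = c * b ∨ s * b = c * a) := by
  haveI := hR q
  have key : ∀ a b : R, algebraMap R (Localization.AtPrime q) b ∣ algebraMap R (Localization.AtPrime q) a →
      ∃ s c : R, s ∉ q ∧ s * a = c * b := by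
    rintro a b ⟨z, hz⟩
    obtain ⟨c, s, rfl⟩ := IsLocalization.exists_mk'_eq q.primeCompl z
    refine ⟨s, c, s.2, IsLocalization.injective (Localization.AtPrime q)
      q.primeCompl_le_nonZeroDivisors ?_⟩
    rw [map_mul, map_mul, hz, mul_left_comm, IsLocalization.mk'_spec', mul_comm]
  rcases ValuationRing.dvd_total (algebraMap R (Localization.AtPrime q) b) (algebraMap R _ a) with h | h
  · obtain ⟨s, c, hs, e⟩ := key a b h
    exact ⟨s, c, hs, .inl e⟩
  · obtain ⟨s, c, hs, e⟩ := key b a h
    exact ⟨s, c, hs, .inr e⟩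

theorem exists_dominant (q : Ideal R) [q.IsPrime] {κ : Type u} (s : Finset κ) (hs : s.Nonempty) (c : κ → R) :
    ∃ i₀ ∈ s, ∀ i ∈ s, ∃ t a : R, t ∉ q ∧ t * c i = a * c i₀ := by
  classical
  induction hs using Finset.Nonempty.cons_induction with
  | singleton k => exact ⟨k, Finset.mem_singleton_self k, fun i hi => ⟨1, 1, Ideal.one_notMem q, by rw [Finset.mem_singleton.1 hi]⟩⟩
  | cons k s hk hs ih =>
    obtain ⟨i₀, hi₀, H⟩ := ih
    obtain ⟨t, a, ht, h | h⟩ := dvd_total_at hR q (c k) (c i₀)
    · refine ⟨i₀, Finset.mem_cons_of_mem hi₀, fun i hi => ?_⟩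
      rcases Finset.mem_cons.1 hi with rfl | hi
      · exact ⟨t, a, ht, h⟩
      · exact H i hi
    · refine ⟨k, Finset.mem_cons_self k s, fun i hi => ?_⟩
      rcases Finset.mem_cons.1 hi with rfl | hi
      · exact ⟨1, 1, Ideal.one_notMem q, rfl⟩
      · obtain ⟨t', a', ht', h'⟩ := H i hi
        exact ⟨t * t', a' * a, q.primeCompl.mul_mem ht ht', by linear_combination t * h' + a' * h⟩

/-- Independence lifts to generalisations. -/
theorem indep_of_le {P Q : Ideal S} [P.IsPrime] [Q.IsPrime] (hPQ : P ≤ Q) {ι : Type u} (y : ι → S)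
    (h : AlgebraicIndependent (R ⧸ Q.under R) (fun i => Ideal.Quotient.mk Q (y i))) :
    AlgebraicIndependent (R ⧸ P.under R) (fun i => Ideal.Quotient.mk P (y i)) := by
  classical
  rw [indep_iff] at h ⊢
  intro F hF m
  by_contra hm
  have hne : F.support.Nonempty := ⟨m, mem_support_iff.2 fun h0 => hm (h0 ▸ zero_mem _)⟩
  haveI : (Q.under R).IsPrime := inferInstance
  obtain ⟨i₀, hi₀, H⟩ := exists_dominant hR (Q.under R) F.support hne (fun i => F.coeff i)
  choose t a ht hta using H
  have hle : P.under R ≤ Q.under R := Ideal.comap_mono hPQ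
  have hi₀P : F.coeff i₀ ∉ P.under R := fun hc => hm (by
    have hmem : t m (mem_support_iff.2 fun h0 => hm (h0 ▸ zero_mem _)) * F.coeff m ∈ P.under R := by
      rw [hta]
      exact Ideal.mul_mem_left _ _ hc
    exact ((Ideal.IsPrime.mem_or_mem inferInstance hmem).resolve_left fun h0 => ht _ _ (hle h0)))
  let T := ∏ i : F.support, t i.1 i.2
  have hT : T ∉ Q.under R := (Q.under R).primeCompl.prod_mem fun i _ => ht i.1 i.2
  let g : (ι →₀ ℕ) → R := fun i =>
    if hi : i ∈ F.support then a i hi * ∏ j ∈ Finset.univ.erase (⟨i, hi⟩ : F.support), t j.1 j.2 else 0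
  let G : MvPolynomial ι R := ∑ i ∈ F.support, monomial i (g i)
  have hG : MvPolynomial.C (F.coeff i₀) * G = MvPolynomial.C T * F := by
    conv_rhs => rw [F.as_sum, Finset.mul_sum]
    rw [Finset.mul_sum]
    refine Finset.sum_congr rfl fun i hi => ?_
    rw [C_mul_monomial, C_mul_monomial]
    congr 1
    simp only [g, dif_pos hi, T]
    rw [← Finset.mul_prod_erase _ _ (Finset.mem_univ (⟨i, hi⟩ : F.support))]
    linear_combination -(∏ j ∈ Finset.univ.erase (⟨i, hi⟩ : F.support), t j.1 j.2) * hta i hi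
  have hGQ : aeval y G ∈ Q := by
    refine hPQ ?_
    have : algebraMap R S (F.coeff i₀) * aeval y G ∈ P := by
      rw [← aeval_C y (F.coeff i₀), ← map_mul, hG, map_mul]
      exact Ideal.mul_mem_left _ _ hF
    exact (Ideal.IsPrime.mem_or_mem inferInstance this).resolve_left hi₀P
  have hc := h G hGQ i₀
  have hGi : G.coeff i₀ = g i₀ := by
    simp only [G, coeff_sum, coeff_monomial]
    rw [Finset.sum_ite_eq' F.support i₀ g, if_pos hi₀]
  rw [hGi] at hc
  have hTi : F.coeff i₀ * g i₀ = T * F.coeff i₀ := by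
    simp only [g, dif_pos hi₀, T]
    rw [← Finset.mul_prod_erase _ _ (Finset.mem_univ (⟨i₀, hi₀⟩ : F.support))]
    linear_combination -(∏ j ∈ Finset.univ.erase (⟨i₀, hi₀⟩ : F.support), t j.1 j.2) * hta i₀ hi₀
  have hgT : g i₀ = T := mul_left_cancel₀ (fun h0 => hi₀P (by rw [h0]; exact zero_mem _)) (hTi.trans (mul_comm _ _))
  exact hT (hgT ▸ hc)

theorem D_le [Algebra.FiniteType R S] {P Q : Ideal S} [P.IsPrime] [Q.IsPrime] (hPQ : P ≤ Q) :
    D R Q ≤ D R P := by
  obtain ⟨ι, _, y, hy, hc, -⟩ := exists_basis (R := R) Q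
  rw [← hc]
  exact card_le P y (indep_of_le hR hPQ y hy)

theorem D_lt [Algebra.FiniteType R S] {P Q : Ideal S} [P.IsPrime] [Q.IsPrime] (hPQ : P < Q)
    (heq : P.under R = Q.under R) : D R Q < D R P := by
  classical
  obtain ⟨ι, _, y, hy, hc, -⟩ := exists_basis (R := R) Q
  obtain ⟨z, hzQ, hzP⟩ := SetLike.exists_of_lt hPQ
  let w : Option ι → S := fun o => o.elim z y
  have : AlgebraicIndependent (R ⧸ P.under R) (fun o => Ideal.Quotient.mk P (w o)) := by
    haveI : IsDomain (S ⧸ P) := inferInstance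
    rw [algebraicIndependent_iff]
    intro G hG
    by_contra hG0
    -- split off the powers of the new variable
    let p := optionEquivLeft (R ⧸ P.under R) ι G
    have hp : p ≠ 0 := fun h => hG0 ((optionEquivLeft _ ι).injective (h.trans (map_zero _).symm))
    obtain ⟨p', hp', hndvd⟩ := p.exists_eq_pow_rootMultiplicity_mul_and_not_dvd hp 0
    rw [map_zero, sub_zero] at hp' hndvd
    have hC : ∀ c : MvPolynomial ι (R ⧸ P.under R),
        (optionEquivLeft (R ⧸ P.under R) ι).symm (Polynomial.C c) = rename some c := fun c => by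
      rw [AlgEquiv.symm_apply_eq]
      induction c using MvPolynomial.induction_on with
      | C a => rw [rename_C, optionEquivLeft_C]
      | add a b ha hb => rw [map_add, map_add, map_add, ha, hb]
      | mul_X a i ha => rw [map_mul, map_mul, map_mul, ha, rename_X, optionEquivLeft_X_some]
    have key : ∀ q : Polynomial (MvPolynomial ι (R ⧸ P.under R)),
        aeval (fun o => Ideal.Quotient.mk P (w o)) ((optionEquivLeft _ ι).symm q) =
          q.eval₂ (aeval fun i => Ideal.Quotient.mk P (y i)).toRingHom (Ideal.Quotient.mk P z) := by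
      intro q
      induction q using Polynomial.induction_on' with
      | add a b ha hb => rw [map_add, map_add, Polynomial.eval₂_add, ha, hb]
      | monomial n c =>
        rw [← Polynomial.C_mul_X_pow_eq_monomial, map_mul, map_pow, map_mul, map_pow, Polynomial.eval₂_mul,
          Polynomial.eval₂_pow, Polynomial.eval₂_C, Polynomial.eval₂_X, hC,
          optionEquivLeft_symm_X, aeval_X, aeval_rename]
        rfl
    have h1 := key p
    rw [show (optionEquivLeft (R ⧸ P.under R) ι).symm p = G from AlgEquiv.symm_apply_apply _ G, hG, hp',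
      Polynomial.eval₂_mul, Polynomial.eval₂_pow, Polynomial.eval₂_X] at h1
    have h2 := (mul_eq_zero.1 h1.symm).resolve_left
      (pow_ne_zero _ fun h => hzP (Ideal.Quotient.eq_zero_iff_mem.1 h))
    obtain ⟨F, hF⟩ := map_surjective (Ideal.Quotient.mk (P.under R)) Ideal.Quotient.mk_surjective (p'.coeff 0)
    have hFQ : aeval y F ∈ Q := by
      obtain ⟨p'', hp''⟩ : Polynomial.X ∣ p' - Polynomial.C (p'.coeff 0) :=
        Polynomial.X_dvd_iff.2 (by simp)
      rw [sub_eq_iff_eq_add] at hp''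
      rw [hp'', Polynomial.eval₂_add, Polynomial.eval₂_mul, Polynomial.eval₂_X, Polynomial.eval₂_C, ← hF] at h2
      obtain ⟨c, hc⟩ := Ideal.Quotient.mk_surjective
        (p''.eval₂ (aeval fun i => Ideal.Quotient.mk P (y i)).toRingHom (Ideal.Quotient.mk P z))
      rw [← hc, show ((aeval fun i => Ideal.Quotient.mk P (y i)).toRingHom (F.map (Ideal.Quotient.mk (P.under R)))) =
        Ideal.Quotient.mk P (aeval y F) from (mk_aeval P y F).symm, ← map_mul, ← map_add,
        Ideal.Quotient.eq_zero_iff_mem] at h2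
      have := sub_mem (hPQ.le h2) (Ideal.mul_mem_right c Q hzQ)
      rwa [add_sub_cancel_left] at this
    refine hndvd (Polynomial.X_dvd_iff.2 ?_)
    rw [← hF]
    ext m
    rw [coeff_map, coeff_zero, Ideal.Quotient.eq_zero_iff_mem]
    have := (indep_iff Q y).1 hy F hFQ m
    rwa [← heq] at this
  have := card_le P w this
  rw [Fintype.card_option] at this
  omega

end Prufer

/-- Algebraicity over a base in whose fibre a prime is isolated. -/
theorem isAlgebraic_of_isolated [Algebra.FiniteType R S] {P Q : Ideal S} [P.IsPrime] [Q.IsPrime]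
    (hPQ : P ≤ Q) {ι : Type u} (w : ι → S)
    (halg : ∀ x : S, x ∉ Q → ∃ F : MvPolynomial ι R, aeval w F ∉ Q ∧ aeval w F ∈ Q ⊔ Ideal.span {x})
    (hmin : ∀ Q' : Ideal S, Q'.IsPrime → P ≤ Q' → Q' ≤ Q →
      (∀ F : MvPolynomial ι R, aeval w F ∈ Q → aeval w F ∈ Q') → Q' = Q) :
    Algebra.IsAlgebraic (Algebra.adjoin (R ⧸ P.under R) (Set.range fun i => Ideal.Quotient.mk P (w i)))
      (S ⧸ P) := by
  classical
  let φ : MvPolynomial ι R →ₐ[R] S ⧸ P := (Ideal.Quotient.mkₐ R P).comp (aeval w)
  letI : Algebra (MvPolynomial ι R) (S ⧸ P) := φ.toRingHom.toAlgebra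
  haveI : IsScalarTower R (MvPolynomial ι R) (S ⧸ P) :=
    IsScalarTower.of_algebraMap_eq fun r => (φ.commutes r).symm
  haveI : Algebra.FiniteType R (S ⧸ P) :=
    Algebra.FiniteType.of_surjective (Ideal.Quotient.mkₐ R P) Ideal.Quotient.mk_surjective
  haveI : Algebra.FiniteType (MvPolynomial ι R) (S ⧸ P) :=
    Algebra.FiniteType.of_restrictScalars_finiteType R _ _
  have hker : RingHom.ker (Ideal.Quotient.mk P) ≤ Q := by rwa [Ideal.mk_ker]
  let q : PrimeSpectrum (S ⧸ P) := ⟨Q.map (Ideal.Quotient.mk P),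
    Ideal.map_isPrime_of_surjective Ideal.Quotient.mk_surjective hker⟩
  have hq : q.asIdeal.comap (Ideal.Quotient.mk P) = Q := by
    rw [Ideal.comap_map_of_surjective _ Ideal.Quotient.mk_surjective, ← RingHom.ker_eq_comap_bot,
      sup_eq_left.2 hker]
  have hQF : ∀ (J : PrimeSpectrum (S ⧸ P)) (F : MvPolynomial ι R),
      aeval w F ∈ J.asIdeal.comap (Ideal.Quotient.mk P) ↔
        F ∈ (PrimeSpectrum.comap (algebraMap (MvPolynomial ι R) (S ⧸ P)) J).asIdeal := fun J F => Iff.rfl
  haveI : q.asIdeal.IsPrime := q.isPrime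
  have hiso : Algebra.QuasiFiniteAt (MvPolynomial ι R) q.asIdeal := by
    refine Algebra.QuasiFiniteAt.of_isOpen_singleton_fiber q ?_
    let p₀ := PrimeSpectrum.comap (algebraMap (MvPolynomial ι R) (S ⧸ P)) q
    let e := PrimeSpectrum.preimageHomeomorphFiber (MvPolynomial ι R) (S ⧸ P) p₀
    let o := PrimeSpectrum.preimageOrderIsoFiber (MvPolynomial ι R) (S ⧸ P) p₀
    rw [← e.isOpen_image, Set.image_singleton]
    haveI : IsNoetherianRing (p₀.asIdeal.Fiber (S ⧸ P)) :=
      Algebra.FiniteType.isNoetherianRing p₀.asIdeal.ResidueField _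
    haveI : IsJacobsonRing (p₀.asIdeal.Fiber (S ⧸ P)) :=
      isJacobsonRing_of_finiteType (A := p₀.asIdeal.ResidueField)
    rw [(PrimeSpectrum.isOpen_singleton_tfae_of_isNoetherian_of_isJacobsonRing _).out 0 2 rfl rfl]
    refine ⟨?_, ?_⟩
    · rw [PrimeSpectrum.isClosed_singleton_iff_isMaximal, ← PrimeSpectrum.isMax_iff]
      intro b hb
      obtain ⟨⟨J, hJ⟩, rfl⟩ := o.surjective b
      refine o.le_iff_le.2 ?_
      have hle : q ≤ J := o.le_iff_le.1 hb
      show J.asIdeal ≤ q.asIdeal
      intro x hx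
      obtain ⟨x, rfl⟩ := Ideal.Quotient.mk_surjective x
      by_contra hxq
      have hxQ : x ∉ Q := fun h => hxq (by rw [← hq] at h; exact h)
      obtain ⟨F, hF, hFx⟩ := halg x hxQ
      have hFJ : aeval w F ∈ J.asIdeal.comap (Ideal.Quotient.mk P) := by
        refine (show Q ⊔ Ideal.span {x} ≤ J.asIdeal.comap (Ideal.Quotient.mk P) from
          sup_le ?_ ((Ideal.span_singleton_le_iff_mem _).2 hx)) hFx
        rw [← hq]
        exact Ideal.comap_mono hle
      rw [hQF, show PrimeSpectrum.comap _ J = p₀ from hJ, ← hQF, hq] at hFJ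
      exact hF hFJ
    · intro a b hab ha
      rw [Set.mem_singleton_iff] at ha ⊢
      subst ha
      rw [← PrimeSpectrum.le_iff_specializes] at hab
      obtain ⟨⟨J, hJ⟩, rfl⟩ := o.surjective b
      show o _ = o _
      congr 1
      refine Subtype.ext (PrimeSpectrum.ext ?_)
      have hle : J ≤ q := o.le_iff_le.1 hab
      have hJQ : J.asIdeal.comap (Ideal.Quotient.mk P) = Q := by
        refine hmin _ inferInstance ((Ideal.mk_ker (I := P)).ge.trans (Ideal.ker_le_comap _))
          (hq ▸ Ideal.comap_mono hle) fun F hF => ?_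
        rw [hQF, show PrimeSpectrum.comap _ J = p₀ from hJ, ← hQF, hq]
        exact hF
      exact Ideal.comap_injective_of_surjective _ Ideal.Quotient.mk_surjective (hJQ.trans hq.symm)
  haveI : q.asIdeal.IsPrime := q.isPrime
  obtain ⟨r, hr, H⟩ := Algebra.zariskisMainProperty_iff'.1
    (Algebra.ZariskisMainProperty.of_finiteType (R := MvPolynomial ι R) q.asIdeal)
  let A := Algebra.adjoin (R ⧸ P.under R) (Set.range fun i => Ideal.Quotient.mk P (w i))
  have hmem : ∀ F : MvPolynomial ι R, φ F ∈ A := fun F => by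
    rw [show φ F = aeval (fun i => Ideal.Quotient.mk P (w i)) (F.map (Ideal.Quotient.mk (P.under R))) from
      mk_aeval P w F, show A = (aeval (R := R ⧸ P.under R) fun i => Ideal.Quotient.mk P (w i)).range from
      Algebra.adjoin_range_eq_range_aeval _ _]
    exact ⟨_, rfl⟩
  let ψ : MvPolynomial ι R →+* A := φ.toRingHom.codRestrict A hmem
  have hint : ∀ z : S ⧸ P, IsIntegral (MvPolynomial ι R) z → IsAlgebraic A z := by
    rintro z ⟨f, hf, hfz⟩
    refine IsIntegral.isAlgebraic ⟨f.map ψ, hf.map ψ, ?_⟩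
    rw [Polynomial.eval₂_map]
    exact hfz
  have hr0 : r ≠ 0 := fun h => hr (h ▸ zero_mem _)
  obtain ⟨m, hm⟩ := H r
  refine ⟨fun x => ?_⟩
  obtain ⟨n, hn⟩ := H x
  rw [← pow_succ] at hm
  have hrint : IsIntegral (MvPolynomial ι R) r := (IsIntegral.pow_iff (Nat.succ_pos m)).1 hm
  exact IsAlgebraic.of_mul (mem_nonZeroDivisors_of_ne_zero (pow_ne_zero n hr0))
    (hint _ (hrint.pow n)) (hint _ hn)

theorem D_le_of_isolated [Algebra.FiniteType R S] {P Q : Ideal S} [P.IsPrime] [Q.IsPrime]
    (hPQ : P ≤ Q) {ι : Type u} [Fintype ι] (w : ι → S)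
    (halg : ∀ x : S, x ∉ Q → ∃ F : MvPolynomial ι R, aeval w F ∉ Q ∧ aeval w F ∈ Q ⊔ Ideal.span {x})
    (hmin : ∀ Q' : Ideal S, Q'.IsPrime → P ≤ Q' → Q' ≤ Q →
      (∀ F : MvPolynomial ι R, aeval w F ∈ Q → aeval w F ∈ Q') → Q' = Q) :
    D R P ≤ Fintype.card ι := by
  haveI := isAlgebraic_of_isolated hPQ w halg hmin
  have h := (Algebra.IsAlgebraic.trdeg_le_cardinalMk (R ⧸ P.under R)
    (Set.range fun i => Ideal.Quotient.mk P (w i))).trans Cardinal.mk_range_le
  rw [Cardinal.mk_fintype] at h
  exact (Cardinal.toNat_le_toNat h Cardinal.natCast_lt_aleph0).trans_eq (Cardinal.toNat_natCast _)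

variable [IsDomain R] (hR : ∀ (p : Ideal R) [p.IsPrime], ValuationRing (Localization.AtPrime p))
  [Algebra.FiniteType R S]
include hR

/-- The prime is generic in its fibre. -/
theorem D_eq_of_minimal {P Q : Ideal S} [P.IsPrime] [Q.IsPrime] (hPQ : P ≤ Q)
    (hmin : ∀ Q' : Ideal S, Q'.IsPrime → P ≤ Q' → Q' ≤ Q → Q'.under R = Q.under R → Q' = Q) :
    D R Q = D R P := by
  obtain ⟨ι, _, y, hy, hc, halg⟩ := exists_basis (R := R) Q
  refine le_antisymm (D_le hR hPQ) ((D_le_of_isolated hPQ y halg fun Q' hQ' h1 h2 h3 => ?_).trans hc.le)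
  refine hmin Q' hQ' h1 h2 (le_antisymm (Ideal.comap_mono h2) fun r hr => ?_)
  have := h3 (C r) (by rw [aeval_C]; exact hr)
  rwa [aeval_C] at this

/-- Between a prime and a covering prime in the same fibre the degree drops by one. -/
theorem D_le_add_one {P Q : Ideal S} [P.IsPrime] [Q.IsPrime] (hPQ : P < Q)
    (hcov : ∀ Q' : Ideal S, Q'.IsPrime → P < Q' → Q' ≤ Q → Q' = Q) : D R P ≤ D R Q + 1 := by
  classical
  obtain ⟨ι, _, y, hy, hc, halg⟩ := exists_basis (R := R) Q
  obtain ⟨z, hzQ, hzP⟩ := SetLike.exists_of_lt hPQ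
  let w : Option ι → S := fun o => o.elim z y
  refine (D_le_of_isolated hPQ.le w (fun x hx => ?_) fun Q' hQ' h1 h2 h3 => ?_).trans_eq (by
    rw [Fintype.card_option, hc])
  · obtain ⟨F, h1, h2⟩ := halg x hx
    refine ⟨rename some F, ?_, ?_⟩ <;> rwa [aeval_rename, show w ∘ some = y from rfl]
  · refine hcov Q' hQ' (lt_of_le_of_ne h1 fun h => hzP (h ▸ ?_)) h2
    have := h3 (X none) (by rw [aeval_X]; exact hzQ)
    rwa [aeval_X] at this

/-- Going down. -/
theorem exists_prime_between {P Q : Ideal S} [P.IsPrime] [Q.IsPrime] (hPQ : P ≤ Q) (q' : Ideal R) [q'.IsPrime]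
    (h1 : P.under R ≤ q') (h2 : q' ≤ Q.under R) :
    ∃ Q' : Ideal S, Q'.IsPrime ∧ P ≤ Q' ∧ Q' ≤ Q ∧ Q'.under R = q' := by
  classical
  let M : Submonoid S := Q.primeCompl ⊔ q'.primeCompl.map (algebraMap R S).toMonoidHom
  by_cases hdisj : Disjoint ((P ⊔ q'.map (algebraMap R S) : Ideal S) : Set S) (M : Set S)
  · obtain ⟨Q', hQ', hle, hd⟩ := Ideal.exists_le_prime_disjoint _ M hdisj
    refine ⟨Q', hQ', le_sup_left.trans hle, fun x hx => ?_, le_antisymm (fun r hr => ?_) ?_⟩
    · by_contra h
      exact Set.disjoint_left.1 hd hx (Submonoid.mem_sup_left h)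
    · by_contra h
      exact Set.disjoint_left.1 hd hr (Submonoid.mem_sup_right ⟨r, h, rfl⟩)
    · exact fun r hr => hle (Ideal.mem_sup_right (Ideal.mem_map_of_mem _ hr))
  · obtain ⟨m, hmI, hmM⟩ := Set.not_disjoint_iff.1 hdisj
    obtain ⟨t, ht, _, ⟨r, hr, rfl⟩, rfl⟩ := Submonoid.mem_sup.1 hmM
    obtain ⟨a, ha, b, hb, hab⟩ := Submodule.mem_sup.1 hmI
    have key : ∀ b ∈ q'.map (algebraMap R S), ∃ u ∉ Q.under R, ∃ c ∈ Q,
        algebraMap R S u * b = algebraMap R S r * c := by
      intro b hb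
      induction hb using Submodule.span_induction with
      | mem b hb =>
        obtain ⟨c, hc, rfl⟩ := hb
        obtain ⟨s, e, hs, h | h⟩ := dvd_total_at hR (Q.under R) c r
        · refine ⟨s, hs, algebraMap R S e, h2 ?_, by rw [← map_mul, ← map_mul, h, mul_comm]⟩
          have : e * r ∈ q' := h ▸ Ideal.mul_mem_left _ _ hc
          exact (Ideal.IsPrime.mem_or_mem inferInstance this).resolve_right hr
        · have : s * r ∈ q' := h ▸ Ideal.mul_mem_left _ _ hc
          exact absurd ((Ideal.IsPrime.mem_or_mem inferInstance this).resolve_right hr) fun h' => hs (h2 h')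
      | zero => exact ⟨1, Ideal.one_notMem _, 0, zero_mem _, by simp⟩
      | add x y _ _ hx hy =>
        obtain ⟨u, hu, c, hc, ec⟩ := hx
        obtain ⟨v, hv, d, hd, ed⟩ := hy
        refine ⟨u * v, (Q.under R).primeCompl.mul_mem hu hv, algebraMap R S v * c + algebraMap R S u * d,
          add_mem (Ideal.mul_mem_left _ _ hc) (Ideal.mul_mem_left _ _ hd), ?_⟩
        rw [map_mul]
        linear_combination algebraMap R S v * ec + algebraMap R S u * ed
      | smul s x _ hx =>
        obtain ⟨u, hu, c, hc, ec⟩ := hx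
        exact ⟨u, hu, s * c, Ideal.mul_mem_left _ _ hc, by rw [smul_eq_mul]; linear_combination s * ec⟩
    obtain ⟨u, hu, c, hc, ec⟩ := key b hb
    have hrP : algebraMap R S r ∉ P := fun h => hr (h1 h)
    have h3 : algebraMap R S r * (algebraMap R S u * t - c) ∈ P := by
      have : algebraMap R S r * (algebraMap R S u * t - c) = algebraMap R S u * a := by
        have e : t * algebraMap R S r = a + b := hab.symm
        linear_combination algebraMap R S u * e + ec
      rw [this]
      exact Ideal.mul_mem_left _ _ ha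
    have h4 : algebraMap R S u * t ∈ Q := by
      have := add_mem (hPQ ((Ideal.IsPrime.mem_or_mem inferInstance h3).resolve_left hrP)) hc
      rwa [sub_add_cancel] at this
    exact ((Ideal.IsPrime.mem_or_mem inferInstance h4).elim hu ht).elim

omit [Algebra R S] [Algebra.FiniteType R S] in
/-- Primes below a prime are totally ordered. -/
theorem le_total_of_le {a b q : Ideal R} [a.IsPrime] [b.IsPrime] [q.IsPrime] (ha : a ≤ q) (hb : b ≤ q) :
    a ≤ b ∨ b ≤ a := by
  by_contra h
  push Not at h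
  obtain ⟨x, hxa, hxb⟩ := SetLike.not_le_iff_exists.1 h.1
  obtain ⟨y, hyb, hya⟩ := SetLike.not_le_iff_exists.1 h.2
  obtain ⟨s, c, hs, e | e⟩ := dvd_total_at hR q x y
  · have : s * x ∈ b := e ▸ Ideal.mul_mem_left _ _ hyb
    exact ((Ideal.IsPrime.mem_or_mem inferInstance this).elim (fun h' => hs (hb h')) hxb)
  · have : s * y ∈ a := e ▸ Ideal.mul_mem_left _ _ hxa
    exact ((Ideal.IsPrime.mem_or_mem inferInstance this).elim (fun h' => hs (ha h')) hya)

/-- The drop of the dimension function. -/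
theorem main (hdim : ringKrullDim R < ⊤) {P Q : Ideal S} [P.IsPrime] [Q.IsPrime] (hPQ : P < Q) :
    ((D R Q : ℤ) - ((Q.under R).height.toNat : ℤ) < (D R P : ℤ) - ((P.under R).height.toNat : ℤ)) ∧
      ((⟨P, inferInstance⟩ : PrimeSpectrum S) ⋖ ⟨Q, inferInstance⟩ ↔
        (D R P : ℤ) - ((P.under R).height.toNat : ℤ) = (D R Q : ℤ) - ((Q.under R).height.toNat : ℤ) + 1) := by
  have hfinite : ∀ I : Ideal R, I.IsPrime → I.height ≠ ⊤ := fun I hI h => by
    have := (Ideal.height_le_ringKrullDim_of_ne_top hI.ne_top).trans_lt hdim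
    rw [h] at this
    exact lt_irrefl _ this
  have hsucc : ∀ a b : Ideal R, a.IsPrime → b.IsPrime → a < b → a.height.toNat < b.height.toNat := by
    intro a b ha hb hab
    haveI := ha; haveI := hb
    have h := ENat.toNat_le_toNat (Ideal.height_add_one_le_of_lt_of_isPrime hab) (hfinite _ hb)
    rw [ENat.toNat_add (hfinite a ha) ENat.one_ne_top, ENat.toNat_one] at h
    omega
  have hcovR : ∀ a b : Ideal R, a.IsPrime → b.IsPrime → a < b →
      (∀ c : Ideal R, c.IsPrime → a < c → c ≤ b → c = b) → b.height.toNat = a.height.toNat + 1 := by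
    intro a b ha hb hab hc
    haveI := ha; haveI := hb
    refine le_antisymm ?_ (hsucc a b ha hb hab)
    have : b.height ≤ a.height + 1 := by
      rw [show b.height = _ from PrimeSpectrum.height_eq_orderHeight ⟨b, hb⟩, Order.height_le_iff']
      intro s hs
      rcases Nat.eq_zero_or_pos s.length with h0 | h0
      · simp [h0]
      · let x := s ⟨s.length - 1, by omega⟩
        have hxb : x.asIdeal < b := by
          have h' : s ⟨s.length - 1, by omega⟩ < s.last :=
            s.strictMono (show (⟨s.length - 1, _⟩ : Fin (s.length + 1)) < Fin.last _ by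
              simp [Fin.lt_def]; omega)
          rw [hs] at h'
          exact h'
        have hxa : x ≤ (⟨a, ha⟩ : PrimeSpectrum R) := by
          rcases le_total_of_le hR hxb.le hab.le with h | h
          · exact h
          · rcases eq_or_lt_of_le h with h' | h'
            · exact h'.ge
            · exact absurd (hc _ inferInstance h' hxb.le) hxb.ne
        have h1 : (s.length - 1 : ℕ) ≤ a.height := by
          refine le_trans ?_ (le_of_eq (PrimeSpectrum.height_eq_orderHeight ⟨a, ha⟩).symm)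
          exact le_trans (Order.index_le_height s ⟨s.length - 1, by omega⟩) (Order.height_mono hxa)
        calc (s.length : ℕ∞) = ((s.length - 1 : ℕ) : ℕ∞) + 1 := by
              exact_mod_cast (Nat.sub_add_cancel h0).symm
          _ ≤ a.height + 1 := by gcongr
    have h2 := ENat.toNat_le_toNat this (by simp [hfinite a ha])
    rwa [ENat.toNat_add (hfinite a ha) ENat.one_ne_top, ENat.toNat_one] at h2
  have hle : P.under R ≤ Q.under R := Ideal.comap_mono hPQ.le
  have hlt : (D R Q : ℤ) - ((Q.under R).height.toNat : ℤ) < (D R P : ℤ) - ((P.under R).height.toNat : ℤ) := by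
    rcases eq_or_lt_of_le hle with h | h
    · have := D_lt hR hPQ h
      rw [h]
      omega
    · have := hsucc _ _ inferInstance inferInstance h
      have := D_le hR hPQ.le
      omega
  refine ⟨hlt, fun hcov => ?_, fun heq => ⟨hPQ, fun {c} hPc hcQ => ?_⟩⟩
  · have hmin : ∀ Q' : Ideal S, Q'.IsPrime → P < Q' → Q' ≤ Q → Q' = Q := fun Q' hQ' h1 h2 => by
      by_contra hne
      exact hcov.2 (c := ⟨Q', hQ'⟩) h1 (show Q' < Q from lt_of_le_of_ne h2 hne)
    rcases eq_or_lt_of_le hle with h | h
    · have := D_le_add_one hR hPQ hmin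
      have := D_lt hR hPQ h
      rw [h]
      omega
    · have := D_eq_of_minimal hR hPQ.le fun Q' hQ' h1 h2 h3 =>
        hmin Q' hQ' (lt_of_le_of_ne h1 fun e => h.ne (e ▸ h3)) h2
      have := hcovR _ _ inferInstance inferInstance h fun c hc hac hcb => by
        haveI := hc
        obtain ⟨Q', hQ', h1, h2, h3⟩ := exists_prime_between hR hPQ.le c hac.le hcb
        rw [← h3, hmin Q' hQ' (lt_of_le_of_ne h1 fun e => hac.ne (e ▸ h3)) h2]
      omega
  · obtain ⟨C, hC⟩ := c
    haveI := hC
    have hPC : P < C := hPc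
    have hCQ : C < Q := hcQ
    have key : ∀ A B : Ideal S, A.IsPrime → B.IsPrime → A < B →
        (D R B : ℤ) - ((B.under R).height.toNat : ℤ) < (D R A : ℤ) - ((A.under R).height.toNat : ℤ) := by
      intro A B hA hB hAB
      haveI := hA; haveI := hB
      rcases eq_or_lt_of_le (show A.under R ≤ B.under R from Ideal.comap_mono hAB.le) with h | h
      · have := D_lt hR hAB h
        rw [h]
        omega
      · have := hsucc _ _ inferInstance inferInstance h
        have := D_le hR hAB.le
        omega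
    have := key P C inferInstance hC hPC
    have := key C Q hC inferInstance hCQ
    omega

end Groth.Agent.PruferLib.DimFn
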