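import Groth.Agent.PruferLib.FlatFPSemilocal
import Groth.Agent.EGA43.FlatDescent.Global
import Mathlib.RingTheory.Flat.TorsionFree

/-!
# Saturated submodules over polynomial rings over Prüfer domains
-/

set_option autoImplicit false

universe u

open MvPolynomial

namespace Groth.Agent.PruferLib.FlatFP

theorem mk_eq_zero_iff {S Q : Type u} [CommRing S] [AddCommGroup Q] [Module S Q] {T : Submonoid S}
    (y : Q) (t : T) : LocalizedModule.mk y t = 0 ↔ ∃ u ∈ T, u • y = 0 := by
  rw [← LocalizedModule.zero_mk (1 : T), LocalizedModule.mk_eq]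
  constructor
  · rintro ⟨u, hu⟩
    refine ⟨u, u.2, ?_⟩
    simpa [Submonoid.smul_def] using hu
  · rintro ⟨u, hu, h⟩
    exact ⟨⟨u, hu⟩, by simpa [Submonoid.smul_def] using h⟩

variable {R : Type u} [CommRing R] [IsDomain R]
  (hR : ∀ (p : Ideal R) [p.IsPrime], ValuationRing (Localization.AtPrime p)) {N k : ℕ}
  {M : Submodule (MvPolynomial (Fin N) R) (Fin k → MvPolynomial (Fin N) R)}
include hR

/-- Near every prime a saturated submodule agrees with a finite one after inverting one element. -/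
theorem exists_fg_near (hM : IsSat M) (p : Ideal R) [p.IsPrime] :
    ∃ (P : Submodule (MvPolynomial (Fin N) R) (Fin k → MvPolynomial (Fin N) R)) (s : R),
      P.FG ∧ P ≤ M ∧ s ∉ p ∧ ∀ x ∈ M, ∃ n : ℕ, (C s : MvPolynomial (Fin N) R) ^ n • x ∈ P := by
  obtain ⟨P, hPfg, hPM, hP⟩ := exists_fg_locally hM p (hR p)
  let S := MvPolynomial (Fin N) R
  let Q := (Fin k → S) ⧸ P
  haveI : Module.FinitePresentation S Q :=
    Module.finitePresentation_of_surjective P.mkQ P.mkQ_surjective (by rwa [Submodule.ker_mkQ])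
  let U : Set (PrimeSpectrum S) :=
    {q | Module.Flat R (LocalizedModule q.asIdeal.primeCompl Q)}
  have hU : IsOpen U := EGA43.FlatDescent.isOpen_setOf_flat
  -- over `p` the quotient is flat
  have hflat : ∀ q : PrimeSpectrum S, (∀ r : R, (C r : S) ∈ q.asIdeal → r ∈ p) → q ∈ U := by
    intro q hq
    show Module.Flat R _
    rw [Module.Flat.flat_iff_torsion_eq_bot_of_valuationRing_localization_isMaximal
      (fun m _ => hR m), eq_bot_iff]
    rintro z ⟨⟨r, hr⟩, hrz⟩
    induction z using LocalizedModule.induction_on with | _ y t => ?_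
    obtain ⟨x, rfl⟩ := Submodule.Quotient.mk_surjective P y
    have hrz' : r • LocalizedModule.mk (Submodule.Quotient.mk x : Q) t = 0 := hrz
    rw [LocalizedModule.smul'_mk, mk_eq_zero_iff] at hrz'
    · obtain ⟨t', ht', htx⟩ := hrz'
      have h1 : (t' : S) • (C r : S) • x ∈ M := hPM <| (Submodule.Quotient.mk_eq_zero P).1 <| by
        rw [Submodule.Quotient.mk_smul, Submodule.Quotient.mk_smul]
        exact (congrArg ((t' : S) • ·) (algebraMap_smul S r (Submodule.Quotient.mk x : Q))).trans htx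
      rw [smul_comm] at h1
      obtain ⟨s, hs, hsx⟩ := hP _ (hM r _ (nonZeroDivisors.ne_zero hr) h1)
      rw [Submodule.mem_bot, mk_eq_zero_iff]
      refine ⟨C s * t', fun h => ?_, ?_⟩
      · rcases q.isPrime.mem_or_mem h with h | h
        · exact hs (hq s h)
        · exact ht' h
      · rw [← Submodule.Quotient.mk_smul, Submodule.Quotient.mk_eq_zero, mul_smul]
        exact hsx
  -- a basic open around the fibre
  obtain ⟨s, hsp, hsU⟩ : ∃ s ∉ p, ∀ q : PrimeSpectrum S, (C s : S) ∉ q.asIdeal → q ∈ U := by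
    by_contra hcon
    push Not at hcon
    obtain ⟨q, hqp, hJq, hdisj⟩ := Ideal.exists_le_prime_disjoint (PrimeSpectrum.vanishingIdeal Uᶜ)
      (p.primeCompl.map (C (σ := Fin N)).toMonoidHom) (by
        rw [Set.disjoint_left]
        rintro _ hJ ⟨s, hs, rfl⟩
        obtain ⟨q, hq, hqU⟩ := hcon s hs
        exact hq ((PrimeSpectrum.mem_vanishingIdeal _ _).1 hJ q hqU))
    have hmem : (⟨q, hqp⟩ : PrimeSpectrum S) ∈ Uᶜ := by
      have : (⟨q, hqp⟩ : PrimeSpectrum S) ∈
          PrimeSpectrum.zeroLocus (PrimeSpectrum.vanishingIdeal Uᶜ : Set S) := hJq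
      rwa [PrimeSpectrum.zeroLocus_vanishingIdeal_eq_closure, hU.isClosed_compl.closure_eq] at this
    exact hmem (hflat _ fun r hr => of_not_not fun hrp =>
      Set.disjoint_left.1 hdisj hr ⟨r, hrp, rfl⟩)
  refine ⟨P, s, hPfg, hPM, hsp, fun x hx => ?_⟩
  obtain ⟨r, hr, hrx⟩ := hP x hx
  let A : Ideal S := P.colon {x}
  have hA : (C s : S) ∈ A.radical := by
    rw [Ideal.radical_eq_sInf, Ideal.mem_sInf]
    rintro q ⟨hAq, hq⟩
    by_contra hsq
    have hf : Module.Flat R (LocalizedModule q.primeCompl Q) := hsU ⟨q, hq⟩ hsq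
    have hz : LocalizedModule.mk (Submodule.Quotient.mk x : Q) (1 : q.primeCompl) ∈
        Submodule.torsion R (LocalizedModule q.primeCompl Q) := by
      refine ⟨⟨r, mem_nonZeroDivisors_of_ne_zero fun h => hr (h ▸ p.zero_mem)⟩, ?_⟩
      show r • LocalizedModule.mk (Submodule.Quotient.mk x : Q) (1 : q.primeCompl) = 0
      rw [LocalizedModule.smul'_mk, ← algebraMap_smul S r, ← Submodule.Quotient.mk_smul]
      rw [show (Submodule.Quotient.mk (algebraMap R S r • x) : Q) = 0 from
        (Submodule.Quotient.mk_eq_zero P).2 hrx, LocalizedModule.zero_mk]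
    rw [Module.Flat.torsion_eq_bot, Submodule.mem_bot, mk_eq_zero_iff] at hz
    obtain ⟨t, ht, htx⟩ := hz
    rw [← Submodule.Quotient.mk_smul, Submodule.Quotient.mk_eq_zero] at htx
    exact ht (hAq (Submodule.mem_colon_singleton.2 htx))
  obtain ⟨n, hn⟩ := hA
  exact ⟨n, Submodule.mem_colon_singleton.1 hn⟩

/-- Over a Prüfer domain saturated submodules are finitely generated. -/
theorem fg_of_isSat_prufer (hM : IsSat M) : M.FG := by
  classical
  choose P s hPfg hPM hs hP using fun p : PrimeSpectrum R => exists_fg_near hR hM p.asIdeal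
  have htop : Ideal.span (Set.range s) = ⊤ := by
    by_contra h
    obtain ⟨m, hm, hle⟩ := Ideal.exists_le_maximal _ h
    exact hs ⟨m, hm.isPrime⟩ (hle (Ideal.subset_span ⟨_, rfl⟩))
  obtain ⟨T, hT⟩ := (Ideal.span_eq_top_iff_finite _).1 htop
  choose g hg using fun y : T => hT.1 y.2
  let P' := ⨆ y : T, P (g y)
  have hP' : P' = M := by
    refine le_antisymm (iSup_le fun y => hPM _) fun x hx => ?_
    let J : Ideal R := ((P'.restrictScalars R)).comap ((LinearMap.id : R →ₗ[R] R).smulRight x)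
    suffices hJ : J = ⊤ by
      have h1 : (1 : R) • x ∈ P'.restrictScalars R := (hJ ▸ Submodule.mem_top : (1 : R) ∈ J)
      rwa [one_smul] at h1
    rw [← Ideal.radical_eq_top, eq_top_iff, ← hT.2, Ideal.span_le]
    intro y hy
    obtain ⟨n, hn⟩ := hP (g ⟨y, hy⟩) x hx
    refine ⟨n, ?_⟩
    show y ^ n • x ∈ P'.restrictScalars R
    rw [← algebraMap_smul (MvPolynomial (Fin N) R) (y ^ n) x, map_pow, MvPolynomial.algebraMap_eq]
    rw [hg ⟨y, hy⟩] at hn
    exact le_iSup (fun y : T => P (g y)) ⟨y, hy⟩ hn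
  rw [← hP']
  exact Submodule.fg_iSup _ fun y => hPfg _

end Groth.Agent.PruferLib.FlatFP
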