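import Groth.Agent.PruferLib.FlatFP

/-!
# Flat finite modules over polynomial rings over semilocal Prüfer domains
-/

set_option autoImplicit false

universe u v w

open MvPolynomial

namespace Groth.Agent.PruferLib.FlatFP

variable {R : Type u} [CommRing R] [IsDomain R] {σ : Type v} {ι : Type w} [Finite σ] [Finite ι]
variable {M : Submodule (MvPolynomial σ R) (ι → MvPolynomial σ R)}

/-- Near a prime at which `R` is a valuation ring, a saturated submodule has finitely many generators. -/
theorem exists_fg_locally (hM : IsSat M) (p : Ideal R) [p.IsPrime]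
    (hp : ValuationRing (Localization.AtPrime p)) :
    ∃ P : Submodule (MvPolynomial σ R) (ι → MvPolynomial σ R), P.FG ∧ P ≤ M ∧
      ∀ x ∈ M, ∃ s ∉ p, (C s : MvPolynomial σ R) • x ∈ P := by
  classical
  cases nonempty_fintype ι
  haveI := hp
  let Rp := Localization.AtPrime p
  let φ : MvPolynomial σ R →+* MvPolynomial σ Rp := MvPolynomial.map (algebraMap R Rp)
  have hinj : Function.Injective φ := MvPolynomial.map_injective _
    (IsLocalization.injective Rp p.primeCompl_le_nonZeroDivisors)
  let Φ : (ι → MvPolynomial σ R) → (ι → MvPolynomial σ Rp) := fun x i => φ (x i)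
  have hΦinj : Function.Injective Φ := fun a b h => funext fun i => hinj (congrFun h i)
  have hΦadd : ∀ a b, Φ (a + b) = Φ a + Φ b := fun a b => funext fun i => map_add φ _ _
  have hΦsmul : ∀ (c : MvPolynomial σ R) a, Φ (c • a) = φ c • Φ a :=
    fun c a => funext fun i => map_mul φ c (a i)
  letI : Algebra (MvPolynomial σ R) (MvPolynomial σ Rp) := φ.toAlgebra
  have hloc : IsLocalization (p.primeCompl.map (C (σ := σ))) (MvPolynomial σ Rp) :=
    MvPolynomial.isLocalization p.primeCompl Rp
  -- the localised submodule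
  let M' : Submodule (MvPolynomial σ Rp) (ι → MvPolynomial σ Rp) := Submodule.span _ (Φ '' (M : Set _))
  have hmem : ∀ z ∈ M', ∃ s ∉ p, ∃ x ∈ M, φ (C s) • z = Φ x := by
    intro z hz
    induction hz using Submodule.span_induction with
    | mem z hz =>
      obtain ⟨x, hx, rfl⟩ := hz
      exact ⟨1, Ideal.one_notMem p, x, hx, by simp⟩
    | zero => exact ⟨1, Ideal.one_notMem p, 0, zero_mem _, funext fun i => by simp [Φ]⟩
    | add a b _ _ ha hb =>
      obtain ⟨s, hs, x, hx, hsx⟩ := ha
      obtain ⟨t, ht, y, hy, hty⟩ := hb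
      refine ⟨s * t, p.primeCompl.mul_mem hs ht, (C t : MvPolynomial σ R) • x + (C s : MvPolynomial σ R) • y,
        add_mem (M.smul_mem _ hx) (M.smul_mem _ hy), ?_⟩
      rw [hΦadd, hΦsmul, hΦsmul, ← hsx, ← hty, smul_add, smul_smul, smul_smul, C_mul, map_mul,
        mul_comm (φ (C t)) (φ (C s))]
    | smul c a _ ha =>
      obtain ⟨s, hs, x, hx, hsx⟩ := ha
      obtain ⟨⟨q, w, t, ht, rfl⟩, hq⟩ := hloc.surj (p.primeCompl.map (C (σ := σ))) c
      refine ⟨s * t, p.primeCompl.mul_mem hs ht, q • x, M.smul_mem _ hx, ?_⟩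
      rw [hΦsmul, ← hsx, smul_smul, smul_smul, C_mul, map_mul]
      congr 1
      change c * φ (C t) = φ q at hq
      rw [← hq]
      ring
  have hsat : IsSat M' := by
    intro r z hr hrz
    obtain ⟨s, hs, x, hx, hsx⟩ := hmem _ hrz
    obtain ⟨a, u, rfl⟩ := IsLocalization.exists_mk'_eq p.primeCompl r
    choose b hb using fun i => hloc.surj (p.primeCompl.map (C (σ := σ))) (z i)
    -- a common denominator
    choose t ht htb using fun i => (b i).2.2
    let T := ∏ i, t i
    have hT : T ∈ p.primeCompl := Submonoid.prod_mem _ fun i _ => ht i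
    let z₀ : ι → MvPolynomial σ R := fun i => (b i).1 * C (∏ j ∈ Finset.univ.erase i, t j)
    have hz₀ : Φ z₀ = φ (C T) • z := by
      funext i
      have h1 := hb i
      show φ _ = φ (C T) * z i
      rw [← htb] at h1
      change z i * φ (C (t i)) = φ (b i).1 at h1
      simp only [z₀]
      rw [map_mul, ← h1, mul_assoc, ← map_mul, ← C_mul, Finset.mul_prod_erase _ _ (Finset.mem_univ i),
        mul_comm]
    have ha : a ≠ 0 := fun h => hr (by rw [h, IsLocalization.mk'_zero])
    have hsa : s * a ≠ 0 := mul_ne_zero (fun h => hs (h ▸ p.zero_mem)) ha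
    -- `(s a) z₀` lies in `M`
    have h2 : (C (s * a) : MvPolynomial σ R) • z₀ ∈ M := by
      have : Φ ((C (s * a) : MvPolynomial σ R) • z₀) =
          Φ ((C T * C (u : R) : MvPolynomial σ R) • x) := by
        rw [hΦsmul, hΦsmul, hz₀, ← hsx, smul_smul, smul_smul, smul_smul]
        congr 1
        have hu : (C (IsLocalization.mk' Rp a u) : MvPolynomial σ Rp) * φ (C (u : R)) = φ (C a) := by
          simp only [φ, MvPolynomial.map_C, ← C_mul, IsLocalization.mk'_spec]
        rw [C_mul, map_mul, map_mul, ← hu]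
        ring
      rw [hΦinj this]
      exact M.smul_mem _ hx
    have h3 : z₀ ∈ M := hM _ _ hsa h2
    obtain ⟨v, hv⟩ := (IsLocalization.map_units (MvPolynomial σ Rp)
      (⟨C T, T, hT, rfl⟩ : p.primeCompl.map (C (σ := σ)))).exists_left_inv
    have : z = v • Φ z₀ := by
      rw [hz₀, smul_smul]
      change v * φ (C T) = 1 at hv
      rw [hv, one_smul]
    rw [this]
    exact M'.smul_mem _ (Submodule.subset_span ⟨z₀, h3, rfl⟩)
  obtain ⟨t, htT, ht⟩ := (Submodule.fg_span_iff_fg_span_finset_subset _).1 (fg_of_isSat hsat)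
  choose g hg hgt using fun y : t => htT y.2
  let P : Submodule (MvPolynomial σ R) (ι → MvPolynomial σ R) := Submodule.span _ (Set.range g)
  refine ⟨P, Submodule.fg_span (Set.finite_range _),
    Submodule.span_le.2 (by rintro _ ⟨y, rfl⟩; exact hg y), fun x hx => ?_⟩
  have hx' : Φ x ∈ Submodule.span (MvPolynomial σ Rp) (Set.range fun y : t => y.1) := by
    have := ht.le (Submodule.subset_span ⟨x, hx, rfl⟩)
    simpa using this
  obtain ⟨c, hc⟩ := Submodule.mem_span_range_iff_exists_fun _ |>.1 hx'
  choose q hq using fun y => hloc.surj (p.primeCompl.map (C (σ := σ))) (c y)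
  choose d hd hdq using fun y => (q y).2.2
  let D := ∏ y, d y
  refine ⟨D, Submonoid.prod_mem _ fun y _ => hd y, ?_⟩
  have : (C D : MvPolynomial σ R) • x =
      ∑ y : t, ((q y).1 * C (∏ j ∈ Finset.univ.erase y, d j)) • g y := by
    apply hΦinj
    funext i
    rw [hΦsmul, ← hc]
    simp only [Φ, Finset.sum_apply, map_sum, Pi.smul_apply, smul_eq_mul, Finset.mul_sum, map_mul]
    refine Finset.sum_congr rfl fun y _ => ?_
    have h1 := hq y
    rw [← hdq] at h1
    change c y * φ (C (d y)) = φ (q y).1 at h1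
    rw [← h1, show φ (g y i) = y.1 i from congrFun (hgt y) i,
      show φ (C D) = φ (C (d y)) * φ (C (∏ j ∈ Finset.univ.erase y, d j)) by
        rw [← map_mul, ← C_mul, Finset.mul_prod_erase _ _ (Finset.mem_univ y)]]
    ring
  rw [this]
  exact Submodule.sum_mem _ fun y _ => P.smul_mem _ (Submodule.subset_span ⟨y, rfl⟩)

/-- Over a semilocal Prüfer domain saturated submodules are finitely generated. -/
theorem fg_of_isSat_semilocal [Finite (MaximalSpectrum R)]
    (hR : ∀ (p : Ideal R) [p.IsPrime], ValuationRing (Localization.AtPrime p)) (hM : IsSat M) : M.FG := by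
  classical
  cases nonempty_fintype (MaximalSpectrum R)
  choose P hPfg hPM hP using fun m : MaximalSpectrum R => exists_fg_locally hM m.asIdeal (hR m.asIdeal)
  have : (⨆ m, P m) = M := by
    refine le_antisymm (iSup_le hPM) fun x hx => ?_
    let J : Ideal R :=
      (((⨆ m, P m).restrictScalars R)).comap ((LinearMap.id : R →ₗ[R] R).smulRight x)
    by_cases hJ : J = ⊤
    · have h1 : (1 : R) ∈ J := hJ ▸ Submodule.mem_top
      have h2 : ((1 : R) • x) ∈ (⨆ m, P m).restrictScalars R := h1
      rwa [one_smul] at h2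
    · obtain ⟨m, hm, hle⟩ := J.exists_le_maximal hJ
      obtain ⟨s, hs, hsx⟩ := hP ⟨m, hm⟩ x hx
      refine absurd (hle ?_) hs
      show s • x ∈ (⨆ m, P m).restrictScalars R
      have : s • x = (C s : MvPolynomial σ R) • x :=
        (algebraMap_smul (MvPolynomial σ R) s x).symm
      rw [this]
      exact le_iSup P ⟨m, hm⟩ hsx
  rw [← this]
  exact Submodule.fg_iSup _ hPfg

end Groth.Agent.PruferLib.FlatFP
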