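import Mathlib
import Groth.Agent.PruferLib.FiniteIntersection

/-! A semilocal Prüfer domain is a finite intersection of valuation subrings of its fraction field. -/

set_option autoImplicit false

namespace Groth.Agent.PruferLib

universe u

variable {R L : Type u} [CommRing R] [IsDomain R] [Field L] [Algebra R L] [IsFractionRing R L]

/-- The localisation at a prime, as a valuation subring of the fraction field. -/
noncomputable def valSubAtPrime (m : Ideal R) [m.IsPrime]
    (hm : ValuationRing (Localization.AtPrime m)) : ValuationSubring L :=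
  ValuationSubring.ofSubring
    (Localization.subalgebra.ofField L _ m.primeCompl_le_nonZeroDivisors).toSubring fun x ↦ by
    obtain ⟨a, b, hb, rfl⟩ := IsFractionRing.div_surjective R x
    have hb0 : b ≠ 0 := nonZeroDivisors.ne_zero hb
    by_cases ha : a = 0
    · left; subst ha; simp
    have hinj : ∀ r : R, r ≠ 0 → algebraMap R L r ≠ 0 := fun r hr ↦
      (map_ne_zero_iff _ (IsFractionRing.injective R L)).mpr hr
    have key : ∀ a b : R, algebraMap R (Localization.AtPrime m) a ∣ algebraMap R _ b →
        ∃ c s : R, s ∈ m.primeCompl ∧ b * s = a * c := by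
      rintro a b ⟨z, hz⟩
      obtain ⟨c, s, rfl⟩ := IsLocalization.exists_mk'_eq m.primeCompl z
      refine ⟨c, s, s.2, IsLocalization.injective (Localization.AtPrime m)
        m.primeCompl_le_nonZeroDivisors ?_⟩
      rw [map_mul, map_mul, hz, mul_assoc, IsLocalization.mk'_spec]
    rcases (ValuationRing.iff_dvd_total.mp hm).total (algebraMap R (Localization.AtPrime m) a)
        (algebraMap R _ b) with h | h
    · right
      obtain ⟨c, s, hs, he⟩ := key a b h
      refine ⟨c, s, hs, ?_⟩
      have hsL := hinj s fun h0 ↦ hs (h0 ▸ m.zero_mem)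
      have haL := hinj a ha
      have he' := congrArg (algebraMap R L) he
      simp only [map_mul] at he'
      field_simp
      linear_combination he'
    · left
      obtain ⟨c, s, hs, he⟩ := key b a h
      refine ⟨c, s, hs, ?_⟩
      have hsL := hinj s fun h0 ↦ hs (h0 ▸ m.zero_mem)
      have hbL := hinj b hb0
      have he' := congrArg (algebraMap R L) he
      simp only [map_mul] at he'
      field_simp
      linear_combination he'

theorem mem_range_iff (hR : ∀ (p : Ideal R) [p.IsPrime], ValuationRing (Localization.AtPrime p))
    (x : L) : x ∈ (algebraMap R L).range ↔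
      ∀ m : MaximalSpectrum R, x ∈ valSubAtPrime (L := L) m.asIdeal (hR m.asIdeal) := by
  have := SetLike.ext_iff.mp (MaximalSpectrum.iInf_localization_eq_bot R L) x
  rw [Algebra.mem_iInf, Algebra.mem_bot] at this
  exact this.symm

theorem mem_inf_subfield_iff
    (hR : ∀ (p : Ideal R) [p.IsPrime], ValuationRing (Localization.AtPrime p)) (K : Subfield L)
    (x : L) : x ∈ (algebraMap R L).range ⊓ K.toSubring ↔ x ∈ K ∧
      ∀ m : MaximalSpectrum R, x ∈ valSubAtPrime (L := L) m.asIdeal (hR m.asIdeal) := by
  rw [Subring.mem_inf, ← mem_range_iff hR, and_comm]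
  rfl

end Groth.Agent.PruferLib
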