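import Mathlib

/-! Semilocal Prüfer domains of finite dimension have finite spectrum. -/

set_option autoImplicit false

namespace Groth.Agent.PruferLib

universe u

variable {R : Type u} [CommRing R] [IsDomain R]

/-- Primes of a Prüfer domain contained in a common prime are comparable. -/
theorem le_total_of_le (hR : ∀ (p : Ideal R) [p.IsPrime], ValuationRing (Localization.AtPrime p))
    (m p q : Ideal R) [m.IsPrime] [p.IsPrime] [q.IsPrime] (hp : p ≤ m) (hq : q ≤ m) :
    p ≤ q ∨ q ≤ p := by
  have := hR m
  let L := Localization.AtPrime m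
  have hd : ∀ r : Ideal R, r ≤ m → Disjoint (m.primeCompl : Set R) r := fun r hr ↦
    Set.disjoint_left.mpr fun x hx hxr ↦ hx (hr hxr)
  have ep := IsLocalization.under_map_of_isPrime_disjoint m.primeCompl L ‹p.IsPrime› (hd p hp)
  have eq' := IsLocalization.under_map_of_isPrime_disjoint m.primeCompl L ‹q.IsPrime› (hd q hq)
  rcases (ValuationRing.le_total_ideal (A := L)).total (Ideal.map (algebraMap R L) p) (Ideal.map (algebraMap R L) q) with h | h
  · left; rw [← ep, ← eq']; exact Ideal.comap_mono h
  · right; rw [← ep, ← eq']; exact Ideal.comap_mono h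

/-- A semilocal Prüfer domain of finite Krull dimension has finitely many primes. -/
theorem finite_primeSpectrum
    (hR : ∀ (p : Ideal R) [p.IsPrime], ValuationRing (Localization.AtPrime p))
    (hfin : Finite (MaximalSpectrum R)) (hdim : ringKrullDim R < ⊤) :
    Finite (PrimeSpectrum R) := by
  obtain ⟨n, hn⟩ : ∃ n : ℕ, ringKrullDim R ≤ n := by
    cases h : ringKrullDim R with
    | bot => exact ⟨0, bot_le⟩
    | coe a =>
      cases a with
      | top => rw [h] at hdim; exact absurd hdim (lt_irrefl _)
      | coe k => exact ⟨k, le_rfl⟩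
  have hh : ∀ x : PrimeSpectrum R, Order.height x ≤ (n : ℕ∞) := fun x ↦
    WithBot.coe_le_coe.mp ((Order.height_le_krullDim x).trans hn)
  have hm : ∀ x : PrimeSpectrum R, ∃ m : MaximalSpectrum R, x.asIdeal ≤ m.asIdeal := fun x ↦ by
    obtain ⟨m, hmm, hle⟩ := Ideal.exists_le_maximal x.asIdeal x.isPrime.ne_top
    exact ⟨⟨m, hmm⟩, hle⟩
  choose mof hmof using hm
  let f : PrimeSpectrum R → MaximalSpectrum R × Fin (n + 1) := fun x ↦
    (mof x, ⟨(Order.height x).toNat, Nat.lt_succ_of_le (ENat.toNat_le_of_le_coe (hh x))⟩)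
  refine Finite.of_injective f fun x y hxy ↦ ?_
  simp only [f, Prod.mk.injEq, Fin.mk.injEq] at hxy
  obtain ⟨h1, h2⟩ := hxy
  have hfinh : ∀ z : PrimeSpectrum R, Order.height z < ⊤ := fun z ↦
    lt_of_le_of_lt (hh z) (ENat.coe_lt_top n)
  have he : Order.height x = Order.height y := by
    rw [← ENat.natCast_toNat (hfinh x).ne, ← ENat.natCast_toNat (hfinh y).ne, h2]
  have hy' : y.asIdeal ≤ (mof x).asIdeal := h1 ▸ hmof y
  have := (mof x).isMaximal.isPrime
  rcases le_total_of_le hR (mof x).asIdeal x.asIdeal y.asIdeal (hmof x) hy' with h | h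
  · rcases eq_or_lt_of_le (show x ≤ y from h) with h' | h'
    · exact h'
    · exact absurd he (Order.height_strictMono h' (hfinh x)).ne
  · rcases eq_or_lt_of_le (show y ≤ x from h) with h' | h'
    · exact h'.symm
    · exact absurd he (Order.height_strictMono h' (hfinh y)).ne'

/-- A finite type algebra over a ring with finite spectrum has Noetherian spectrum. -/
theorem noetherianSpace_of_finite_primeSpectrum (R S : Type u) [CommRing R] [CommRing S]
    [Algebra R S] [Algebra.FiniteType R S] [Finite (PrimeSpectrum R)] :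
    TopologicalSpace.NoetherianSpace (PrimeSpectrum S) := by
  have h : ∀ P : PrimeSpectrum R, TopologicalSpace.NoetherianSpace
      ↥(PrimeSpectrum.comap (algebraMap R S) ⁻¹' {P}) := fun P ↦ by
    have : IsNoetherianRing (P.asIdeal.Fiber S) :=
      Algebra.FiniteType.isNoetherianRing P.asIdeal.ResidueField _
    exact (PrimeSpectrum.preimageHomeomorphFiber R S P).isInducing.noetherianSpace
  have hu := TopologicalSpace.NoetherianSpace.iUnion
    (fun P : PrimeSpectrum R ↦ PrimeSpectrum.comap (algebraMap R S) ⁻¹' {P})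
    (hf := h)
  rw [TopologicalSpace.noetherianSpace_set_iff] at hu
  refine TopologicalSpace.noetherianSpace_iff_opens _ |>.mpr fun U ↦ hu _ ?_
  intro x _
  exact Set.mem_iUnion.mpr ⟨_, rfl⟩

end Groth.Agent.PruferLib
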