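import Groth.Agent.PruferLib.CoherentPoly
import Groth.Agent.Coherent.ProjSpaceFinite
import Groth.Agent.EGA43.QcohFP
import Groth.Agent.EGA43.FibDepth.LociScheme

/-!
# Finitely presented sections on schemes over semilocal Prüfer domains
-/

set_option autoImplicit false

universe u v w

open CategoryTheory CategoryTheory.Limits AlgebraicGeometry

namespace Groth.Agent.PruferLib.SheafFP

section Algebra

variable {R : Type u} [CommRing R] [IsDomain R] [Finite (MaximalSpectrum R)]
  (hR : ∀ (p : Ideal R) [p.IsPrime], ValuationRing (Localization.AtPrime p))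
  {A : Type v} [CommRing A] [Algebra R A] [Algebra.FiniteType R A]
  (htf : ∀ (r : R) (a : A), r ≠ 0 → algebraMap R A r * a = 0 → a = 0)
include hR htf

/-- Coherence of torsion free algebras of finite type. -/
theorem finitePresentation_submodule {M : Type w} [AddCommGroup M] [Module A M]
    [Module.FinitePresentation A M] (N : Submodule A M) (hN : N.FG) : Module.FinitePresentation A N := by
  obtain ⟨n, π, hπ⟩ := Algebra.FiniteType.iff_quotient_mvPolynomial''.1 ‹Algebra.FiniteType R A›
  let S := MvPolynomial (Fin n) R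
  letI : Algebra S A := π.toRingHom.toAlgebra
  haveI : Module.Finite S A := Module.Finite.of_surjective (Algebra.linearMap S A) hπ
  haveI : Module.FinitePresentation S A :=
    FlatFP.finitePresentation_of_torsionFree hR A fun r a hr h => htf r a hr (by
      have h' : π (MvPolynomial.C r) * a = 0 :=
        (Algebra.smul_def (MvPolynomial.C r : S) a).symm.trans h
      rwa [← MvPolynomial.algebraMap_eq, AlgHom.commutes] at h')
  letI : Module S M := Module.compHom M π.toRingHom
  haveI : IsScalarTower S A M := IsScalarTower.of_algebraMap_smul fun _ _ => rfl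
  haveI : Module.FinitePresentation S M := Module.FinitePresentation.trans S M A
  haveI : Module.Finite A N := Module.Finite.iff_fg.2 hN
  haveI : Module.Finite S N := Module.Finite.trans A N
  haveI : Module.FinitePresentation S N :=
    FlatFP.finitePresentation_submodule hR (N.restrictScalars S)
      ((Module.Finite.iff_fg (N := N.restrictScalars S)).1
        (inferInstanceAs (Module.Finite S N)))
  -- ascend to `A`
  obtain ⟨m, f, hf⟩ := Module.Finite.exists_fin' A N
  refine Module.finitePresentation_of_surjective f hf ?_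
  have hk := Module.FinitePresentation.fg_ker (f.restrictScalars S) hf
  rw [LinearMap.ker_restrictScalars] at hk
  obtain ⟨t, ht⟩ := hk
  refine ⟨t, le_antisymm (Submodule.span_le.2 fun x hx => ?_) fun x hx => ?_⟩
  · have : x ∈ (LinearMap.ker f).restrictScalars S := ht ▸ Submodule.subset_span hx
    exact this
  · have : x ∈ Submodule.span S (t : Set (Fin m → A)) := ht.symm ▸ hx
    exact Submodule.span_le_restrictScalars S A (t : Set (Fin m → A)) this

/-- A finite submodule of a finite torsion free module is finitely presented. -/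
theorem finitePresentation_of_torsionFree (M : Type w) [AddCommGroup M] [Module A M] [Module.Finite A M]
    (hM : ∀ (r : R) (m : M), r ≠ 0 → algebraMap R A r • m = 0 → m = 0) :
    Module.FinitePresentation A M := by
  obtain ⟨n, π, hπ⟩ := Algebra.FiniteType.iff_quotient_mvPolynomial''.1 ‹Algebra.FiniteType R A›
  let S := MvPolynomial (Fin n) R
  letI : Algebra S A := π.toRingHom.toAlgebra
  haveI : Module.Finite S A := Module.Finite.of_surjective (Algebra.linearMap S A) hπ
  letI : Module S M := Module.compHom M π.toRingHom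
  haveI : IsScalarTower S A M := IsScalarTower.of_algebraMap_smul fun _ _ => rfl
  haveI : Module.Finite S M := Module.Finite.trans A M
  haveI : Module.FinitePresentation S M :=
    FlatFP.finitePresentation_of_torsionFree hR M fun r m hr h => hM r m hr (by
      have h' : π (MvPolynomial.C r) • m = 0 := h
      rwa [← MvPolynomial.algebraMap_eq, AlgHom.commutes] at h')
  obtain ⟨m, f, hf⟩ := Module.Finite.exists_fin' A M
  refine Module.finitePresentation_of_surjective f hf ?_
  have hk := Module.FinitePresentation.fg_ker (f.restrictScalars S) hf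
  rw [LinearMap.ker_restrictScalars] at hk
  obtain ⟨t, ht⟩ := hk
  refine ⟨t, le_antisymm (Submodule.span_le.2 fun x hx => ?_) fun x hx => ?_⟩
  · have : x ∈ (LinearMap.ker f).restrictScalars S := ht ▸ Submodule.subset_span hx
    exact this
  · have : x ∈ Submodule.span S (t : Set (Fin m → A)) := ht.symm ▸ hx
    exact Submodule.span_le_restrictScalars S A (t : Set (Fin m → A)) this

end Algebra

open Groth.Agent.Coherent Groth.Agent.PicLib

section Sheaf

variable {R : Type u} [CommRing R] {X Y : Scheme.{u}}

/-- The base ring acting on sections. -/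
noncomputable def secHom (f : X ⟶ Spec (CommRingCat.of R)) (U : X.Opens) : R →+* Γ(X, U) :=
  ((Scheme.ΓSpecIso (CommRingCat.of R)).inv ≫ f.appLE ⊤ U le_top).hom

theorem finiteType_secHom (f : X ⟶ Spec (CommRingCat.of R)) [LocallyOfFiniteType f] {U : X.Opens}
    (hU : IsAffineOpen U) : (secHom f U).FiniteType := by
  rw [secHom, CommRingCat.hom_comp]
  exact (f.finiteType_appLE (isAffineOpen_top _) hU le_top).comp
    (RingHom.FiniteType.of_surjective _
      (ConcreteCategory.bijective_of_isIso (Scheme.ΓSpecIso (CommRingCat.of R)).inv).2)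

theorem secHom_res (f : X ⟶ Spec (CommRingCat.of R)) {U V : X.Opens} (h : V ≤ U) (r : R) :
    res h (secHom f U r) = secHom f V r :=
  ConcreteCategory.congr_hom (f.appLE_map le_top (homOfLE h).op)
    ((Scheme.ΓSpecIso (CommRingCat.of R)).inv r)

/-- Sections over affine opens have no torsion over the base. -/
def NoTorsion (f : X ⟶ Spec (CommRingCat.of R)) : Prop :=
  ∀ (U : X.Opens), IsAffineOpen U → ∀ (r : R) (a : Γ(X, U)), r ≠ 0 → secHom f U r * a = 0 → a = 0

theorem noTorsion_of_flat [IsDomain R] (f : X ⟶ Spec (CommRingCat.of R)) [Flat f] : NoTorsion f := by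
  intro U hU r a hr h
  letI := (secHom f U).toAlgebra
  have hflat : (secHom f U).Flat := by
    rw [secHom, CommRingCat.hom_comp]
    exact RingHom.Flat.comp
      (RingHom.Flat.of_bijective (ConcreteCategory.bijective_of_isIso (Scheme.ΓSpecIso (CommRingCat.of R)).inv))
      (Flat.flat_appLE f (isAffineOpen_top _) hU le_top)
  haveI : Module.Flat R Γ(X, U) := hflat
  have : a ∈ Submodule.torsion R Γ(X, U) :=
    ⟨⟨r, mem_nonZeroDivisors_of_ne_zero hr⟩, by
      rw [Submonoid.smul_def, Algebra.smul_def]
      exact h⟩
  rwa [Module.Flat.torsion_eq_bot, Submodule.mem_bot] at this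

theorem noTorsion_of_integral [IsDomain R] [AlgebraicGeometry.IsIntegral X]
    (f : X ⟶ Spec (CommRingCat.of R)) [IsDominant f] [QuasiCompact f] : NoTorsion f := by
  intro U hU r a hr h
  rcases isEmpty_or_nonempty U with hempty | hne
  · have hbot : U = ⊥ := TopologicalSpace.Opens.ext (Set.eq_empty_of_forall_notMem fun x hx => hempty.false ⟨x, hx⟩)
    subst hbot
    haveI : Subsingleton Γ(X, ⊥) := CommRingCat.subsingleton_of_isTerminal X.sheaf.isTerminalOfEmpty
    exact Subsingleton.elim _ _
  refine (mul_eq_zero.1 h).resolve_left fun h0 => hr ?_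
  haveI : IsSchemeTheoreticallyDominant f := IsSchemeTheoreticallyDominant.of_isDominant f
  haveI : Nonempty X := ⟨hne.some.1⟩
  have hinj : Function.Injective (secHom f U) := by
    have h1 : secHom f U =
        (X.presheaf.map (homOfLE (le_top : U ≤ ⊤)).op).hom.comp
          (f.appTop.hom.comp (Scheme.ΓSpecIso (CommRingCat.of R)).inv.hom) := rfl
    rw [h1]
    exact (map_injective_of_isIntegral X (homOfLE le_top)).comp
      ((Scheme.Hom.app_injective f _).comp (ConcreteCategory.bijective_of_isIso _).1)
  exact hinj (h0.trans (map_zero _).symm)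

/-- Quasi-coherent, with finitely presented sections on all affine opens. -/
structure FPSec (M : X.Modules) : Prop where
  qcoh : Coh.IsQCoh M
  fp : ∀ U : X.Opens, IsAffineOpen U → Module.FinitePresentation Γ(X, U) Γ(M, U)

theorem FPSec.of_isFP {M : X.Modules} (hM : CohB1.IsFP M) : FPSec M := by
  have hq : Coh.IsQCoh M := EGA43.FibDepth.isQCoh_of_isFP _ hM
  exact ⟨hq, fun U hU => EGA43.QcohFP.finitePresentation_sections M hM hU⟩

theorem FPSec.isCoh {M : X.Modules} (hM : FPSec M) : Coh.IsCoh M :=
  (isCoh_iff_finite_sections M).2 ⟨hM.qcoh, fun U hU => by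
    haveI := hM.fp U hU
    infer_instance⟩

variable [IsDomain R] [Finite (MaximalSpectrum R)]
  (hR : ∀ (p : Ideal R) [p.IsPrime], ValuationRing (Localization.AtPrime p))
  (f : X ⟶ Spec (CommRingCat.of R)) [LocallyOfFiniteType f] (hf : NoTorsion f)
include hR hf

/-- The kernel of an epimorphism between such modules. -/
theorem FPSec.kernel {M N : X.Modules} (φ : M ⟶ N) [Epi φ] (hM : FPSec M) (hN : FPSec N) :
    FPSec (Limits.kernel φ) := by
  have := hM.qcoh
  have := hN.qcoh
  have hK : Coh.IsQCoh (Limits.kernel φ) := isQCoh_kernel φ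
  refine ⟨hK, fun U hU => ?_⟩
  let S : ShortComplex X.Modules := ShortComplex.mk (kernel.ι φ) φ (kernel.condition φ)
  have hS : S.ShortExact :=
    { exact := ShortComplex.exact_kernel φ, epi_g := ‹Epi φ›, mono_f := inferInstance }
  haveI : Coh.IsQCoh S.X₁ := hK
  have hinj := sections_injective hS U
  have hsurj := sections_surjective hS hU
  letI := (secHom f U).toAlgebra
  haveI : Algebra.FiniteType R Γ(X, U) := finiteType_secHom f hU
  haveI := hM.fp U hU
  haveI := hN.fp U hU
  let g : Γ(M, U) →ₗ[Γ(X, U)] Γ(N, U) := appLin φ U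
  let j : Γ(Limits.kernel φ, U) →ₗ[Γ(X, U)] Γ(M, U) := appLin (kernel.ι φ) U
  have hg : (LinearMap.ker g).FG := Module.FinitePresentation.fg_ker g hsurj
  have hrange : LinearMap.range j = LinearMap.ker g := by
    ext s
    constructor
    · rintro ⟨k, rfl⟩
      exact kernel_ι_app_zero φ U k
    · intro hs
      exact kernel_sections_exact φ s hs
  haveI := finitePresentation_submodule hR (hf U hU) (LinearMap.ker g) hg
  exact Module.FinitePresentation.of_equiv
    (((LinearEquiv.ofInjective j hinj).trans (LinearEquiv.ofEq _ _ hrange)).symm)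

/-- Coherent modules without torsion have finitely presented sections. -/
theorem FPSec.of_torsionFree {M : X.Modules} (hM : Coh.IsCoh M)
    (htf : ∀ (U : X.Opens), IsAffineOpen U → ∀ (r : R) (m : Γ(M, U)), r ≠ 0 → secHom f U r • m = 0 → m = 0) :
    FPSec M := by
  refine ⟨hM.1, fun U hU => ?_⟩
  letI := (secHom f U).toAlgebra
  haveI : Algebra.FiniteType R Γ(X, U) := finiteType_secHom f hU
  haveI := ((isCoh_iff_finite_sections M).1 hM).2 U hU
  exact finitePresentation_of_torsionFree hR (hf U hU) Γ(M, U) (htf U hU)

omit hR [Finite (MaximalSpectrum R)] [LocallyOfFiniteType f] in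
/-- Modules with local generators have no torsion. -/
theorem torsionFree_of_gens {M : X.Modules}
    (hgen : ∀ x : X, ∃ (U : X.Opens) (s : Γ(M, U)), x ∈ U ∧ IsGen M U s)
    (U : X.Opens) (r : R) (m : Γ(M, U)) (hr : r ≠ 0) (h : secHom f U r • m = 0) : m = 0 := by
  have hloc : ∀ x ∈ U, ∃ (W : X.Opens) (hWU : W ≤ U), x ∈ W ∧ resM M hWU m = 0 := by
    intro x hx
    obtain ⟨V, s, hxV, hs⟩ := hgen x
    obtain ⟨W, hW, hxW, hWle⟩ := exists_isAffineOpen_mem_and_subset (show x ∈ U ⊓ V from ⟨hx, hxV⟩)
    have hWU : W ≤ U := fun w hw => (hWle hw).1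
    have hWV : W ≤ V := fun w hw => (hWle hw).2
    refine ⟨W, hWU, hxW, ?_⟩
    obtain ⟨c, hc⟩ := (hs W hWV).2 (resM M hWU m)
    have hrc : secHom f W r * c = 0 := by
      refine (hs W hWV).1 ?_
      show (secHom f W r * c) • resM M hWV s = (0 : Γ(X, W)) • resM M hWV s
      rw [mul_smul, zero_smul, show c • resM M hWV s = resM M hWU m from hc, ← secHom_res f hWU,
        ← resM_smul]
      exact (congrArg (resM M hWU) h).trans (map_zero _)
    rw [← hc, hf W hW r c hr hrc]
    exact zero_smul _ _
  choose W hWU hxW hW using hloc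
  refine TopCat.Sheaf.eq_of_locally_eq' (⟨M.presheaf, M.isSheaf⟩ : TopCat.Sheaf Ab X)
    (fun x : U => W x.1 x.2) U (fun x => homOfLE (hWU x.1 x.2))
    (fun x hx => TopologicalSpace.Opens.mem_iSup.2 ⟨⟨x, hx⟩, hxW x hx⟩) m 0 fun x => ?_
  exact (hW x.1 x.2).trans (map_zero _).symm

end Sheaf

end Groth.Agent.PruferLib.SheafFP
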